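import Mathlib.Analysis.SpecialFunctions.Log.Basic

/-!
# Arithmetic at the end of S4030
-/

set_option autoImplicit false

namespace Groth.Agent.Lefpen.H711.Arith

theorem arith (e1 e2 e3 : ℤ) (N n : ℕ) (L a b c d : ℝ) (hL : L ≠ 0) (h1 : (e1 : ℝ) * L = a)
    (h2 : (e2 : ℝ) * L = b) (h3 : (e3 : ℝ) * L = c) (hd : d = 2 * c + (-1 : ℝ) ^ n * N * L)
    (hE : d = a + b) : (N : ℤ) = (-1 : ℤ) ^ n * (e1 + e2 - 2 * e3) := by
  have h4 : ((-1 : ℝ) ^ n * N) * L = ((e1 : ℝ) + e2 - 2 * e3) * L := by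
    rw [← h1, ← h2, hd, ← h3] at hE
    linarith
  have h5 := mul_right_cancel₀ hL h4
  have h6 : ((-1 : ℤ) ^ n * N : ℤ) = e1 + e2 - 2 * e3 := by
    have : (((-1 : ℤ) ^ n * N : ℤ) : ℝ) = ((e1 + e2 - 2 * e3 : ℤ) : ℝ) := by
      push_cast
      exact h5
    exact_mod_cast this
  rw [← h6, ← mul_assoc, ← mul_pow]
  simp

end Groth.Agent.Lefpen.H711.Arith
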