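import Groth.Agent.Lefpen.H710.Growth
import Groth.Agent.Lefpen.H714.EulerConst
import Groth.Agent.Etrest.ConstBasic
import Groth.Agent.EtpbcB.TorsionBasic

/-!
# The `ℓ`-adic Euler characteristic and the mod `ℓ` Euler characteristic

`euler_ec`: `EtAdic.euler Z ℓ N * log ℓ = ec ℓ Z` if the `H^i(Z, Z/ℓ)` are finite and vanish above `N`.
-/

set_option autoImplicit false
universe u
open CategoryTheory CategoryTheory.Limits CategoryTheory.Abelian AlgebraicGeometry Opposite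
open Groth.Agent.Lefpen.H714 EulerAlg EulerEt

namespace Groth.Agent.Lefpen.H711.BettiEc

theorem killed_H (Z : Scheme.{u}) (ℓ : ℕ) (i : ℕ) (x : EtCoh.H Z (EtCoh.const Z (ZMod ℓ)) i) : ℓ • x = 0 := by
  have h1 := (EtpbcB.TorsionBasic.killedBy_iff ℓ (EtCoh.const Z (ZMod ℓ))).1
    (Etrest.ConstBasic.killedBy_const Z (ZMod ℓ) ℓ (by simp))
  have key : ∀ (z : Ext.{u + 1} (EtCoh.const Z ℤ) (EtCoh.const Z (ZMod ℓ)) i) (n : ℕ),
      z.comp (Ext.mk₀ (n • 𝟙 (EtCoh.const Z (ZMod ℓ)))) (add_zero i) = n • z := by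
    intro z n
    induction n with
    | zero => rw [zero_smul, Ext.mk₀_zero, Ext.comp_zero, zero_smul]
    | succ n ih => rw [succ_nsmul, Ext.mk₀_add, Ext.comp_add, ih, Ext.comp_mk₀_id, succ_nsmul]
  have h2 := key x ℓ
  rw [h1, Ext.mk₀_zero, Ext.comp_zero] at h2
  exact h2.symm

theorem euler_ec (Z : Scheme.{u}) (ℓ : ℕ) [Fact ℓ.Prime] (h : GoodE Z (EtCoh.const Z (ZMod ℓ))) (N : ℕ)
    (hN : ∀ i, N < i → Subsingleton (EtCoh.H Z (EtCoh.const Z (ZMod ℓ)) i)) :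
    (EtAdic.euler Z ℓ N : ℝ) * Real.log ℓ = ec ℓ Z := by
  have e1 : ∀ i, Nonempty (EtAdic.Hmod Z ℓ i 1 ≃ EtCoh.H Z (EtCoh.const Z (ZMod ℓ)) i) := fun i => by
    unfold EtAdic.Hmod
    rw [pow_one]
    exact ⟨Equiv.refl _⟩
  have hfin : ∀ i, Finite (EtAdic.Hmod Z ℓ i 1) := fun i => by
    have := h.fin i
    exact Finite.of_equiv _ (e1 i).some.symm
  have hsub : Subsingleton (EtAdic.Hmod Z ℓ (N + 1) 1) := by
    have := hN (N + 1) (Nat.lt_succ_self N)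
    exact (e1 (N + 1)).some.subsingleton
  rw [H710.Growth.euler_eq Z ℓ hfin N hsub, ec, e, chi_eq_sum N hN]
  push_cast
  rw [Finset.sum_mul]
  refine Finset.sum_congr rfl fun i _ => ?_
  rw [mul_assoc]
  congr 1
  have := h.fin i
  obtain ⟨r, -, hr⟩ := EulerConst.exists_basis ℓ (EtCoh.H Z (EtCoh.const Z (ZMod ℓ)) i) (killed_H Z ℓ i)
  rw [Nat.card_congr (e1 i).some, lg, hr, Nat.log_pow (Fact.out : ℓ.Prime).one_lt, Nat.cast_pow, Real.log_pow]

end Groth.Agent.Lefpen.H711.BettiEc
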