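import Groth.Agent.Lefpen.H714.EulerEt
import Groth.Agent.S0156

/-!
# The Euler characteristic of a proper fibration over a curve

* `e_of_mult`: the multiplicative formula of S4175 gives
  `e C F = (2 - 2 g) lg M + ∑_{x ∈ S} (lg F_x - lg M)`.
* `fibre_e`: `e (Y_ξ) A = ∑_q (-1)^q lg ((R^q f_* A)_ξ)` for a geometric point `ξ`.
* `fibration`: for `f : Y ⟶ C` proper such that every `R^q f_* A` satisfies an Euler characteristic formula,
  `e Y A = c e(Y_η) A + ∑_{x ∈ S} (e(Y_x) A - e(Y_η) A - ∑_q (-1)^q w q x)`.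
-/

set_option autoImplicit false
set_option linter.auxLemma false
universe u
open CategoryTheory CategoryTheory.Limits CategoryTheory.Abelian AlgebraicGeometry Opposite
open Groth.Agent.Lefpen.H714 EulerAlg EulerEt

namespace Groth.Agent.Lefpen.H711.CurveEuler

/-- The multiplicative formula of S4175 in additive form. -/
theorem e_of_mult {C : Scheme.{u}} {F : EtCoh.Ab C} (hfin : ∀ i : ℕ, Finite (EtCoh.H C F i))
    (hvan : ∀ i : ℕ, 3 ≤ i → Subsingleton (EtCoh.H C F i)) (g m : ℕ) (S : Finset C) (f : C → ℕ)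
    (hm : m ≠ 0) (hf : ∀ x ∈ S, f x ≠ 0)
    (h : Nat.card (EtCoh.H C F 0) * Nat.card (EtCoh.H C F 2) * m ^ (2 * g) * ∏ _x ∈ S, m =
      Nat.card (EtCoh.H C F 1) * m ^ 2 * ∏ x ∈ S, f x) :
    GoodE C F ∧ e C F = (2 - 2 * (g : ℝ)) * Real.log m + ∑ x ∈ S, (Real.log (f x) - Real.log m) := by
  refine ⟨⟨hfin, 2, fun n hn => hvan n hn⟩, ?_⟩
  have hc : ∀ i, (Nat.card (EtCoh.H C F i) : ℝ) ≠ 0 := fun i => by
    have := hfin i
    exact_mod_cast Nat.card_pos.ne'
  have hm' : (m : ℝ) ≠ 0 := by exact_mod_cast hm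
  have hf' : ∀ x ∈ S, (f x : ℝ) ≠ 0 := fun x hx => by exact_mod_cast hf x hx
  have h1 : ((Nat.card (EtCoh.H C F 0) : ℝ) * Nat.card (EtCoh.H C F 2) * (m : ℝ) ^ (2 * g) * ∏ _x ∈ S, (m : ℝ)) =
      Nat.card (EtCoh.H C F 1) * (m : ℝ) ^ 2 * ∏ x ∈ S, (f x : ℝ) := by exact_mod_cast h
  have h2 := congrArg Real.log h1
  rw [Real.log_mul (mul_ne_zero (mul_ne_zero (hc 0) (hc 2)) (pow_ne_zero _ hm'))
      (Finset.prod_ne_zero_iff.2 fun _ _ => hm'),
    Real.log_mul (mul_ne_zero (hc 0) (hc 2)) (pow_ne_zero _ hm'), Real.log_mul (hc 0) (hc 2),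
    Real.log_mul (mul_ne_zero (hc 1) (pow_ne_zero _ hm')) (Finset.prod_ne_zero_iff.2 hf'),
    Real.log_mul (hc 1) (pow_ne_zero _ hm'), Real.log_pow, Real.log_pow,
    Real.log_prod (fun _ _ => hm'), Real.log_prod hf'] at h2
  have h3 : EulerEt.e C F = Real.log (Nat.card (EtCoh.H C F 0)) - Real.log (Nat.card (EtCoh.H C F 1)) +
      Real.log (Nat.card (EtCoh.H C F 2)) := by
    rw [e, chi_eq_sum 2 (fun n hn => hvan n hn)]
    simp only [Finset.sum_range_succ, Finset.sum_range_zero, lg]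
    ring
  rw [h3, Finset.sum_sub_distrib]
  push_cast at h2
  linarith

theorem subsingleton_H_of_isZero {X : Scheme.{u}} (F : EtCoh.Ab X) (h : IsZero F) (p : ℕ) :
    Subsingleton (EtCoh.H X F p) :=
  ⟨fun x y => by
    have key : ∀ z : Ext.{u + 1} (EtCoh.const X ℤ) F p, z = 0 := fun z => by
      rw [← Ext.comp_mk₀_id z, h.eq_of_src (𝟙 _) 0, Ext.mk₀_zero, Ext.comp_zero]
    exact (key x).trans (key y).symm⟩

section Fibre

variable {Y C : Scheme.{u}} (f : Y ⟶ C) [IsProper f] (A : EtCoh.Ab Y)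

theorem stalk_equiv {Ω : Type u} [Field Ω] [IsSepClosed Ω] (ξ : Spec (CommRingCat.of Ω) ⟶ C)
    (hA : EtCoh.IsTorsion A) (q : ℕ) :
    Nonempty ((EtCoh.stalk ξ).obj ((EtCoh.Rpush f q).obj A) ≃
      EtCoh.H (pullback f ξ) ((EtCoh.pull (pullback.fst f ξ)).obj A) q) := by
  obtain ⟨i⟩ := S0156.result f ξ A hA q
  exact ⟨i.addCommGroupIsoToAddEquiv.toEquiv⟩

theorem subsingleton_stalk {Ω : Type u} [Field Ω] [IsSepClosed Ω] (ξ : Spec (CommRingCat.of Ω) ⟶ C)
    {F : EtCoh.Ab C} (h : IsZero F) : Subsingleton ((EtCoh.stalk ξ).obj F) :=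
  AddCommGrpCat.subsingleton_of_isZero ((EtCoh.stalk ξ).map_isZero h)

/-- The Euler characteristic of a geometric fibre in terms of the stalks of the higher direct images. -/
theorem fibre_e {Ω : Type u} [Field Ω] [IsSepClosed Ω] (ξ : Spec (CommRingCat.of Ω) ⟶ C)
    (hA : EtCoh.IsTorsion A) (N : ℕ) (hN : ∀ q, N < q → IsZero ((EtCoh.Rpush f q).obj A)) :
    e (pullback f ξ) ((EtCoh.pull (pullback.fst f ξ)).obj A) =
      ∑ q ∈ Finset.range (N + 1), (-1 : ℝ) ^ q * lg ((EtCoh.stalk ξ).obj ((EtCoh.Rpush f q).obj A)) := by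
  rw [e, chi_eq_sum N fun n hn => ?_]
  · refine Finset.sum_congr rfl fun q _ => ?_
    rw [lg_congr (stalk_equiv f A ξ hA q).some]
  · have := subsingleton_stalk ξ (hN n hn)
    exact (stalk_equiv f A ξ hA n).some.symm.subsingleton

/-- **Euler characteristic of a proper fibration over a curve**, from formulas for the higher direct images. -/
theorem fibration (hA : EtCoh.IsTorsion A) (N : ℕ) (hN : ∀ q, N < q → IsZero ((EtCoh.Rpush f q).obj A))
    (c : ℝ) (S : Finset C) {Ω : Type u} [Field Ω] [IsSepClosed Ω] (η : Spec (CommRingCat.of Ω) ⟶ C)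
    (ξ : C → (Spec (CommRingCat.of Ω) ⟶ C)) (w : ℕ → C → ℝ)
    (hG : ∀ q, GoodE C ((EtCoh.Rpush f q).obj A))
    (hF : ∀ q, e C ((EtCoh.Rpush f q).obj A) = c * lg ((EtCoh.stalk η).obj ((EtCoh.Rpush f q).obj A)) +
      ∑ x ∈ S, (lg ((EtCoh.stalk (ξ x)).obj ((EtCoh.Rpush f q).obj A)) -
        lg ((EtCoh.stalk η).obj ((EtCoh.Rpush f q).obj A)) - w q x)) :
    GoodE Y A ∧ e Y A = c * e (pullback f η) ((EtCoh.pull (pullback.fst f η)).obj A) +
      ∑ x ∈ S, (e (pullback f (ξ x)) ((EtCoh.pull (pullback.fst f (ξ x))).obj A) -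
        e (pullback f η) ((EtCoh.pull (pullback.fst f η)).obj A) -
          ∑ q ∈ Finset.range (N + 1), (-1 : ℝ) ^ q * w q x) := by
  obtain ⟨h1, h2⟩ := leray f N A hG (fun q hq p => subsingleton_H_of_isZero _ (hN q hq) p)
  refine ⟨h1, ?_⟩
  rw [h2, fibre_e f A η hA N hN]
  simp only [fibre_e f A (ξ _) hA N hN, hF]
  rw [Finset.mul_sum]
  simp only [mul_add, Finset.mul_sum, Finset.sum_add_distrib, mul_sub, Finset.sum_sub_distrib]
  rw [Finset.sum_comm (s := Finset.range (N + 1)) (t := S), Finset.sum_comm (s := Finset.range (N + 1)) (t := S),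
    Finset.sum_comm (s := Finset.range (N + 1)) (t := S)]
  congr 1
  exact Finset.sum_congr rfl fun q _ => by ring

end Fibre

end Groth.Agent.Lefpen.H711.CurveEuler
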