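import Groth.Agent.Lefpen.H711.DropAlg
import Groth.Agent.Lefpen.H714.EulerEt
import Groth.Agent.S3095
import Groth.Agent.S0185
import Groth.Agent.S0151
import Groth.Agent.S0101
import Groth.Agent.Etrest.ConstBasic
import Groth.Agent.Etrest.SHPoint
import Groth.Statements.S3996
import Groth.Statements.S3997

/-!
# The drop of the Euler characteristic at an ordinary quadratic degeneration

`drop`: with the hypotheses of S3996/S3997 (passed as `h96`, `h97`) and `ℓ` a prime invertible in `R`,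
`e(X_s, Z/ℓ) = e(X_Ω, Z/ℓ) + (-1)^{m+1} #Sing log ℓ`.
-/

set_option autoImplicit false
universe u
open CategoryTheory CategoryTheory.Limits AlgebraicGeometry Opposite
open Groth.Agent.Lefpen.H714 EulerAlg EulerEt

namespace Groth.Agent.Lefpen.H711.TraitDrop

theorem killedBy_zmod (X : Scheme.{u}) (ℓ : ℕ) : EtCoh.KilledBy ℓ (EtCoh.const X (ZMod ℓ)) :=
  Etrest.ConstBasic.killedBy_const X (ZMod ℓ) ℓ (by simp)

theorem isTorsion_zmod (X : Scheme.{u}) (ℓ : ℕ) (hℓ : 0 < ℓ) : EtCoh.IsTorsion (EtCoh.const X (ZMod ℓ)) :=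
  Etrest.ConstBasic.isTorsion_of_killedBy hℓ (killedBy_zmod X ℓ)

theorem constructible_zmod (X : Scheme.{u}) (ℓ : ℕ) [NeZero ℓ] :
    EtPBC.IsConstructible (EtCoh.const X (ZMod ℓ)) :=
  Etrest.ConstBasic.isConstructible_const X (ZMod ℓ)

/-- The cohomology of a constant sheaf, pulled back. -/
theorem nonempty_H_pull {X Y : Scheme.{u}} (f : X ⟶ Y) (M : Type) [AddCommGroup M] (n : ℕ) :
    Nonempty (EtCoh.H X ((EtCoh.pull f).obj (EtCoh.const Y M)) n ≃ EtCoh.H X (EtCoh.const X M) n) :=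
  nonempty_H_iso (EtCore.pullConst f M) n

theorem e_pull_const {X Y : Scheme.{u}} (f : X ⟶ Y) (ℓ : ℕ) :
    e X ((EtCoh.pull f).obj (EtCoh.const Y (ZMod ℓ))) = ec ℓ X :=
  e_iso (EtCore.pullConst f (ZMod ℓ))

theorem cohDimLE_sepClosed (Ω : Type u) [Field Ω] [IsSepClosed Ω] :
    EtCoh.CohDimLE (Spec (CommRingCat.of Ω)) 0 := fun F _ q hq =>
  Etrest.SHPoint.subsingleton_H_of_sepClosed Ω F q hq

/-- The cohomology of a proper scheme over a separably closed field with coefficients in `Z/ℓ`. -/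
theorem goodE_of_proper {Ω : Type u} [Field Ω] [IsSepClosed Ω] {X : Scheme.{u}}
    (a : X ⟶ Spec (CommRingCat.of Ω)) [IsProper a] (ℓ : ℕ) [NeZero ℓ] :
    GoodE X (EtCoh.const X (ZMod ℓ)) := by
  obtain ⟨d, hd⟩ := S0151.result Ω X a 0 (cohDimLE_sepClosed Ω)
  exact ⟨fun q => S0185.result X a ℓ (NeZero.pos ℓ) _ (constructible_zmod X ℓ) (killedBy_zmod X ℓ) q,
    d, fun q hq => hd _ (isTorsion_zmod X ℓ (NeZero.pos ℓ)) q hq⟩

section Special

variable (R : Type u) [CommRing R] [IsLocalRing R] (hR : EtCoh.IsStrictlyHenselianLocalRing R)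
  {X : Scheme.{u}} (f : X ⟶ Spec (CommRingCat.of R)) [IsProper f] (ℓ : ℕ) [NeZero ℓ]

include hR in
/-- Proper base change: the cohomology of the special fibre. -/
theorem nonempty_special (n : ℕ) :
    Nonempty (EtCoh.H X (EtCoh.const X (ZMod ℓ)) n ≃
      EtCoh.H (VanCyc.spFib R f) (EtCoh.const (VanCyc.spFib R f) (ZMod ℓ)) n) := by
  obtain ⟨hh, -⟩ := hR
  have hpfl : PreservesFiniteLimits (EtCoh.pull (pullback.fst f
      (Spec.map (CommRingCat.ofHom (IsLocalRing.residue R))))) := S0101.result _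
  have h1 := @S3095.result R _ hh X f _ _ hpfl (EtCoh.const X (ZMod ℓ))
    (isTorsion_zmod X ℓ (NeZero.pos ℓ)) n
  obtain ⟨h2⟩ := nonempty_H_pull (VanCyc.icl R f) (ZMod ℓ) n
  exact ⟨(Equiv.ofBijective _ h1).trans h2⟩

include hR in
theorem special : GoodE X (EtCoh.const X (ZMod ℓ)) ∧ ec ℓ X = ec ℓ (VanCyc.spFib R f) := by
  have hs : IsSepClosed (IsLocalRing.ResidueField R) := hR.2
  have h1 := goodE_of_proper (VanCyc.spStr R f) ℓ
  exact ⟨h1.congr fun n => ⟨(nonempty_special R hR f ℓ n).some.symm⟩,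
    e_congr fun n => nonempty_special R hR f ℓ n⟩

end Special

/-- **The Euler characteristic drop.** -/
theorem drop (h96 : type_of% @VanCyc.GrothFrozen.S3996.{u}) (h97 : type_of% @VanCyc.GrothFrozen.S3997.{u})
    (R K Ω : Type u) [CommRing R] [IsDomain R] [IsDiscreteValuationRing R]
    (hR : EtCoh.IsStrictlyHenselianLocalRing R) [Field K] [Algebra R K] [IsFractionRing R K] [Field Ω] [Algebra K Ω]
    [IsSepClosure K Ω] [Algebra R Ω] [IsScalarTower R K Ω]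
    {X : Scheme.{u}} (f : X ⟶ Spec (CommRingCat.of R)) [IsProper f] [Flat f] (m : ℕ)
    (hη : SmoothOfRelativeDimension m (VanCyc.fibStr R f K))
    (Sing : Finset ↥(VanCyc.spFib R f)) (hSc : ∀ x ∈ Sing, IsClosed ({x} : Set ↥(VanCyc.spFib R f)))
    (hSq : ∀ x ∈ Sing, VanCyc.IsOrdQuadPt (VanCyc.resHom (VanCyc.spStr R f) x) m)
    (U : (VanCyc.spFib R f).Opens) (hU : ∀ x : ↥(VanCyc.spFib R f), x ∉ Sing → x ∈ U)
    (hUs : SmoothOfRelativeDimension m (U.ι ≫ VanCyc.spStr R f))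
    (ℓ : ℕ) [Fact ℓ.Prime] (hℓ : IsUnit (ℓ : R)) :
    ec ℓ (VanCyc.spFib R f) =
      ec ℓ (VanCyc.fib R f Ω) + (-1 : ℝ) ^ (m + 1) * (Sing.card * Real.log ℓ) := by
  have hpfl : PreservesFiniteLimits (EtCoh.pull (VanCyc.jA R f Ω)) := S0101.result _
  have hne : NeZero ℓ := ⟨(Fact.out : ℓ.Prime).ne_zero⟩
  obtain ⟨hgood, hs⟩ := special R hR f ℓ
  obtain ⟨hinj, hsurj, φ, ψ, h1, h2, h3⟩ :=
    h97 R K Ω hR f m hη Sing hSc hSq U hU hUs ℓ hℓ
  have h4 := DropAlg.drop (fun n => EtCore.Hpull (VanCyc.jA R f Ω) (EtCoh.const X (ZMod ℓ)) n) m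
    (fun i hi hi' => h96 R K Ω hR f m hη Sing hSc hSq U hU hUs ℓ hℓ i hi hi') hinj hsurj φ ψ h1 h2 h3 hgood
  have h5 : lg (↥Sing → ZMod ℓ) = Sing.card * Real.log ℓ := by
    rw [lg, Nat.card_fun, Nat.card_zmod, Nat.card_eq_fintype_card, Fintype.card_coe, Nat.cast_pow,
      Real.log_pow]
  rw [h5] at h4
  rw [← hs, ← e_pull_const (VanCyc.jA R f Ω) ℓ]
  exact h4.2

end Groth.Agent.Lefpen.H711.TraitDrop
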