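import Groth.Agent.S4028
import Groth.Agent.S0101
import Groth.Agent.Divis.BlowUpFormal
import Groth.Agent.Divis.EffCartier
import Groth.Agent.Lefpen.H711.TraitDrop
import Groth.Agent.Lefpen.H711.CurveEuler
import Groth.Agent.Etcore.Stalks
import Groth.Agent.Etrest.HConstIso

/-!
# Mod `ℓ` Euler characteristic of a blow-up in codimension two

`ec_blowUp`: `ec ℓ X' = ec ℓ X + ec ℓ Δ` for the blow-up of a smooth proper `X` of relative dimension `n`
over a separably closed field in a smooth `Δ` of relative dimension `n - 2`; `ec_blowUp_top`: the case of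
empty centre.
-/

set_option autoImplicit false
universe u
open CategoryTheory CategoryTheory.Limits AlgebraicGeometry Opposite
open Groth.Agent.Lefpen.H714 EulerAlg EulerEt

namespace Groth.Agent.Lefpen.H711.BlowEc

theorem chi_prod {A B C : ℕ → Type*} (hA : Good A) (hB : Good B) (nA : ∀ n, Nonempty (A n))
    (nB : ∀ n, Nonempty (B n)) (e : ∀ n, Nonempty (C n ≃ A n × B n)) :
    chi C = chi A + chi B := by
  obtain ⟨a, ha⟩ := hA.bdd
  obtain ⟨b, hb⟩ := hB.bdd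
  have hfA := hA.fin
  have hfB := hB.fin
  have h1 : ∀ n, max a b < n → Subsingleton (A n) := fun n hn => ha n (lt_of_le_of_lt (le_max_left _ _) hn)
  have h2 : ∀ n, max a b < n → Subsingleton (B n) := fun n hn => hb n (lt_of_le_of_lt (le_max_right _ _) hn)
  have h3 : ∀ n, max a b < n → Subsingleton (C n) := fun n hn => by
    have := h1 n hn
    have := h2 n hn
    exact (e n).some.subsingleton
  rw [chi_eq_sum _ h1, chi_eq_sum _ h2, chi_eq_sum _ h3, ← Finset.sum_add_distrib]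
  refine Finset.sum_congr rfl fun n _ => ?_
  have h4 : (Nat.card (A n) : ℝ) ≠ 0 := by
    have := nA n
    exact_mod_cast Nat.card_pos.ne'
  have h5 : (Nat.card (B n) : ℝ) ≠ 0 := by
    have := nB n
    exact_mod_cast Nat.card_pos.ne'
  rw [lg_congr (e n).some, lg, Nat.card_prod, Nat.cast_mul, Real.log_mul h4 h5, lg, lg]
  ring

section

variable {k : Type u} [Field k] [IsSepClosed k] (ℓ : ℕ) [Fact ℓ.Prime] (hℓ : (ℓ : k) ≠ 0)
  {X X' : Scheme.{u}} (f : X ⟶ Spec (CommRingCat.of k)) [IsProper f]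

include hℓ in
theorem ec_blowUp (n : ℕ) (hn : 2 ≤ n) [SmoothOfRelativeDimension n f] (𝓘 : X.IdealSheafData)
    [SmoothOfRelativeDimension (n - 2) (𝓘.subschemeι ≫ f)] (b : X' ⟶ X) (hb : BlowUp.IsBlowUp b 𝓘) :
    ec ℓ X' = ec ℓ X + ec ℓ 𝓘.subscheme := by
  have hne : NeZero ℓ := ⟨(Fact.out : ℓ.Prime).ne_zero⟩
  have hpfl : PreservesFiniteLimits (EtCoh.pull b) := S0101.result b
  have hsm : SmoothOfRelativeDimension (n - (1 + 1)) (𝓘.subschemeι ≫ f) := ‹_›
  have key := fun q => (S4028.result k ℓ (NeZero.pos ℓ) hℓ n 1 hn f 𝓘 b hb q).2.2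
  have gX := TraitDrop.goodE_of_proper f ℓ
  have gD := TraitDrop.goodE_of_proper (𝓘.subschemeι ≫ f) ℓ
  let P : ℕ → Type (u + 1) := fun q => ∀ j : {j : Fin 1 // 2 * (j.1 + 1) ≤ q},
    EtCoh.H 𝓘.subscheme (EtCoh.const 𝓘.subscheme (ZMod ℓ)) (q - 2 * (j.1.1 + 1))
  have h0 : ∀ q, q < 2 → Subsingleton (P q) := by
    intro q hq
    have : IsEmpty {j : Fin 1 // 2 * (j.1 + 1) ≤ q} := ⟨fun j => by
      have := j.2
      omega⟩
    infer_instance
  have h1 : ∀ q, Nonempty (P (q + 2) ≃ EtCoh.H 𝓘.subscheme (EtCoh.const 𝓘.subscheme (ZMod ℓ)) q) := by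
    intro q
    let j0 : {j : Fin 1 // 2 * (j.1 + 1) ≤ q + 2} := ⟨0, by simp⟩
    have : Unique {j : Fin 1 // 2 * (j.1 + 1) ≤ q + 2} := ⟨⟨j0⟩, fun j => Subtype.ext (Subsingleton.elim _ _)⟩
    refine ⟨(Equiv.piUnique _).trans (Equiv.cast ?_)⟩
    have h2 : q + 2 - 2 * ((default : {j : Fin 1 // 2 * (j.1 + 1) ≤ q + 2}).1.1 + 1) = q := by
      have h3 : (default : {j : Fin 1 // 2 * (j.1 + 1) ≤ q + 2}).1 = 0 := Subsingleton.elim _ _
      rw [h3]
      simp
    rw [h2]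
  have h2 : Good P := good_shift 2 h0 h1 gD
  have h3 := chi_shift 2 h0 h1 gD
  have h4 : ec ℓ X' = chi (fun n => EtCoh.H X (EtCoh.const X (ZMod ℓ)) n) + chi P :=
    chi_prod gX h2 (fun n => ⟨0⟩) (fun n => ⟨fun _ => 0⟩) fun q => ⟨(key q).some.toEquiv⟩
  rw [h4, h3]
  have h5 : ((-1 : ℝ)) ^ 2 = 1 := by norm_num
  rw [h5, one_mul]
  rfl

end

theorem ec_empty (ℓ : ℕ) (X : Scheme.{u}) [IsEmpty X] : ec ℓ X = 0 :=
  chi_of_subsingleton fun n => CurveEuler.subsingleton_H_of_isZero _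
    (Etcore.Stalks.isZero_of_stalks _ fun x => (IsEmpty.false x).elim) n

/-- The case of empty centre. -/
theorem ec_blowUp_empty (ℓ : ℕ) {X X' : Scheme.{u}} (𝓘 : X.IdealSheafData) [IsEmpty 𝓘.subscheme] (b : X' ⟶ X)
    (hb : BlowUp.IsBlowUp b 𝓘) : ec ℓ X' = ec ℓ X + ec ℓ 𝓘.subscheme := by
  have h1 : 𝓘 = ⊤ := by
    rw [← Scheme.IdealSheafData.ker_subschemeι 𝓘, Scheme.Hom.ker_eq_top_iff_isEmpty]
    infer_instance
  have h2 : IsIso b := Divis.BlowUpFormal.isIso_of_isBlowUp_of_isEff hb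
    (h1 ▸ Divis.EffCartier.isEff_top)
  rw [ec_empty ℓ 𝓘.subscheme, add_zero]
  exact e_congr fun q => ⟨(Etrest.HConstIso.nonempty_HConst (asIso b) (ZMod ℓ) q).some.symm.toEquiv⟩

end Groth.Agent.Lefpen.H711.BlowEc
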