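import Groth.Agent.Lefpen.H370.RhoGeo
import Groth.Agent.Vancyc.H588.P1
import Groth.Agent.S0023
import Groth.Prelude.Def_CurvBase

/-!
# The open part of the projective line over which a Lefschetz pencil is smooth

`F`, `H` span a Lefschetz pencil and `H` is transversal (so the fibre at infinity is smooth).
`bad` is the finite set of the points `t = c` with `F + c H` not transversal, `U` its complement.
-/

set_option autoImplicit false
universe u
open CategoryTheory AlgebraicGeometry Limits TopologicalSpace Opposite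

namespace Groth.Agent.Lefpen.H711.PencilOpen

open LefPen Groth.Agent.Lefpen.H723.P1Pt Groth.Agent.Lefpen.H723.PencilGeom
  Groth.Agent.Lefpen.H723.PencilSmooth Groth.Agent.Lefpen.H370.RhoGeo

variable {k : Type u} [Field k]

/-- The underlying point. -/
noncomputable def P (j : Fin (1 + 1)) (c : k) : CohB1.ProjSpace 1 k := pt j c default

theorem range_pt_eq (j : Fin (1 + 1)) (c : k) : Set.range (pt j c) = {P j c} := by
  ext x
  constructor
  · rintro ⟨y, rfl⟩
    rw [Subsingleton.elim y default]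
    rfl
  · rintro rfl
    exact ⟨_, rfl⟩

theorem isClosed_P (j : Fin (1 + 1)) (c : k) : IsClosed ({P j c} : Set (CohB1.ProjSpace 1 k)) := by
  rw [← range_pt_eq]
  exact (pt j c).isClosedEmbedding.isClosed_range

theorem mem_support_iff (j : Fin (1 + 1)) (c : k) (x : CohB1.ProjSpace 1 k) :
    x ∈ (hypIdeal (lin j c)).support ↔ x = P j c := by
  have h1 := Groth.Agent.Lefpen.H723.PencilSmooth.range_pt (k := k) j c
  rw [range_pt_eq] at h1
  have h2 : x ∈ ((hypIdeal (lin j c)).support : Set (CohB1.ProjSpace 1 k)) ↔ x ∈ ({P j c} : Set _) := by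
    rw [h1]
  exact h2

/-- The maximal ideal of the point `c` of the affine line. -/
theorem chart_point (j : Fin (1 + 1)) (c : k) :
    P j c = Groth.Agent.Sga5.ProjSmooth.chart 1 k j (Spec.map (CommRingCat.ofHom
      (MvPolynomial.eval (fun _ : Fin 1 => c))) default) := by
  rw [P, pt, Scheme.Hom.comp_apply]

theorem P_injective (j : Fin (1 + 1)) : Function.Injective (fun c : k => P j c) := by
  intro c d h
  change P j c = P j d at h
  rw [chart_point, chart_point] at h
  have h1 := (Groth.Agent.Sga5.ProjSmooth.chart 1 k j).isOpenEmbedding.injective h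
  have h2 : ∀ (e : k) (p : MvPolynomial (Fin 1) k),
      p ∈ (Spec.map (CommRingCat.ofHom (MvPolynomial.eval (fun _ : Fin 1 => e)))
        (default : Spec (CommRingCat.of k)) : PrimeSpectrum (MvPolynomial (Fin 1) k)).asIdeal ↔
        MvPolynomial.eval (fun _ : Fin 1 => e) p = 0 := by
    intro e p
    have h0 : (default : Spec (CommRingCat.of k)) = (⊥ : PrimeSpectrum k) := Subsingleton.elim _ _
    change p ∈ (PrimeSpectrum.comap (MvPolynomial.eval (fun _ : Fin 1 => e))
      (default : Spec (CommRingCat.of k))).asIdeal ↔ _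
    rw [h0]
    simp [PrimeSpectrum.comap]
  have h3 : (MvPolynomial.X 0 - MvPolynomial.C c : MvPolynomial (Fin 1) k) ∈
      (Spec.map (CommRingCat.ofHom (MvPolynomial.eval (fun _ : Fin 1 => c)))
        (default : Spec (CommRingCat.of k)) : PrimeSpectrum (MvPolynomial (Fin 1) k)).asIdeal := by
    rw [h2]; simp
  rw [h1, h2] at h3
  simp only [map_sub, MvPolynomial.eval_X, MvPolynomial.eval_C] at h3
  exact (sub_eq_zero.1 h3).symm

theorem Pinf_ne (c : k) : P 1 (0 : k) ≠ P 0 c := by
  intro h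
  have h1 : P 0 c ∈ LefPen.chart 1 k 0 := by
    have h2 : P 0 c ∈ (hypIdeal (lin 0 c)).support := (mem_support_iff 0 c _).2 rfl
    exact mem_chart_of_mem_support 0 c _ h2
  have h3 : P 1 (0 : k) = Groth.Agent.Sga5.ProjSmooth.chart 1 k 1 _ := chart_point 1 (0 : k)
  rw [← h, h3] at h1
  have h4 : Spec.map (CommRingCat.ofHom (MvPolynomial.eval (fun _ : Fin 1 => (0 : k)))) default ∈
      (Groth.Agent.Sga5.ProjSmooth.chart 1 k 1) ⁻¹ᵁ (LefPen.chart 1 k 0) := h1
  rw [chart_preimage 1 0 (by decide)] at h4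
  have h0 : (default : Spec (CommRingCat.of k)) = (⊥ : PrimeSpectrum k) := Subsingleton.elim _ _
  have h5 : (MvPolynomial.X 0 : MvPolynomial (Fin 1) k) ∉
      (PrimeSpectrum.comap (MvPolynomial.eval (fun _ : Fin 1 => (0 : k)))
        (default : Spec (CommRingCat.of k))).asIdeal := h4
  rw [h0] at h5
  apply h5
  simp [PrimeSpectrum.comap]

/-- The points of the projective line. -/
theorem point_cases [IsAlgClosed k] (x : CohB1.ProjSpace 1 k) :
    x = Groth.Agent.Sga5.ProjConn.genPt 1 k ∨ x = P 1 (0 : k) ∨ ∃ c : k, x = P 0 c := by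
  rcases Groth.Agent.Sga4h.BidGeoP1.eq_genPt_or_isClosed k x with h | h
  · exact Or.inl h
  · right
    rcases Groth.Agent.Lefpen.H723.P1Closed.exists_mem_support x h with ⟨c, hc⟩ | h1
    · right
      rw [line_eq] at hc
      exact ⟨c, (mem_support_iff 0 c x).1 hc⟩
    · left
      rw [lineInf_eq] at h1
      exact (mem_support_iff 1 0 x).1 h1

theorem genPt_ne_P [IsAlgClosed k] (j : Fin (1 + 1)) (c : k) :
    Groth.Agent.Sga5.ProjConn.genPt 1 k ≠ P j c := by
  intro h
  have h1 : Groth.Agent.Sga5.ProjConn.genPt 1 k ⤳ P 1 (0 : k) :=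
    Groth.Agent.Sga4h.BidGeoP1.genPt_specializes k 1 _
  have h2 : Groth.Agent.Sga5.ProjConn.genPt 1 k ⤳ P 0 (0 : k) :=
    Groth.Agent.Sga4h.BidGeoP1.genPt_specializes k 1 _
  rw [h] at h1 h2
  have h3 := h1.mem_closed (isClosed_P j c) rfl
  have h4 := h2.mem_closed (isClosed_P j c) rfl
  exact Pinf_ne (0 : k) ((Set.mem_singleton_iff.1 h3).trans (Set.mem_singleton_iff.1 h4).symm)

theorem genus_eq_zero [(CohB1.ProjSpace 1 k).Over (Spec (CommRingCat.of k))] :
    Curv2.genus k (CohB1.ProjSpace 1 k) = 0 := by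
  have : Subsingleton (Coh.HH (CohB1.ProjSpace 1 k) (Coh.structureModule _) 1) :=
    Groth.Agent.S0023.result 1 k 1 Nat.one_pos
  exact Module.finrank_zero_of_subsingleton

section Pencil

variable [IsAlgClosed k] {r n d : ℕ} {X X' : Scheme.{u}}
  {i : X ⟶ CohB1.ProjSpace r k} {F H : Form r k d} {b : X' ⟶ X} {ρ : X' ⟶ CohB1.ProjSpace 1 k}

/-- The bad parameters. -/
def badSet (n : ℕ) (i : X ⟶ CohB1.ProjSpace r k) (F H : Form r k d) : Set k :=
  {c | ¬ Transversal k n 1 (secToSpec i {F + c • H})}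

omit [IsAlgClosed k] in
theorem finite_badSet (hL : IsLefschetzPencil k n i d F H) : (badSet n i F H).Finite := hL.2.2.1

open Classical in
/-- The bad points of the line. -/
noncomputable def bad (hL : IsLefschetzPencil k n i d F H) : Finset (CohB1.ProjSpace 1 k) :=
  (finite_badSet hL).toFinset.image (fun c => P 0 c)

omit [IsAlgClosed k] in
theorem mem_bad_iff (hL : IsLefschetzPencil k n i d F H) (x : CohB1.ProjSpace 1 k) :
    x ∈ bad hL ↔ ∃ c : k, ¬ Transversal k n 1 (secToSpec i {F + c • H}) ∧ x = P 0 c := by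
  classical
  simp only [bad, Finset.mem_image, Set.Finite.mem_toFinset]
  constructor
  · rintro ⟨c, hc, rfl⟩
    exact ⟨c, hc, rfl⟩
  · rintro ⟨c, hc, rfl⟩
    exact ⟨c, hc, rfl⟩

omit [IsAlgClosed k] in
theorem card_bad (hL : IsLefschetzPencil k n i d F H) :
    (bad hL).card = Nat.card {c : k // ¬ Transversal k n 1 (secToSpec i {F + c • H})} := by
  classical
  rw [bad, Finset.card_image_of_injective _ (P_injective 0)]
  have h := Nat.card_eq_card_finite_toFinset (finite_badSet hL)
  rw [← h]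
  rfl

omit [IsAlgClosed k] in
theorem isClosed_bad (hL : IsLefschetzPencil k n i d F H) :
    IsClosed ((bad hL : Finset (CohB1.ProjSpace 1 k)) : Set (CohB1.ProjSpace 1 k)) := by
  have h1 : ((bad hL : Finset (CohB1.ProjSpace 1 k)) : Set (CohB1.ProjSpace 1 k)) =
      ⋃ x ∈ bad hL, {x} := by
    ext y
    simp
  rw [h1]
  refine (bad hL).finite_toSet.isClosed_biUnion fun x hx => ?_
  obtain ⟨c, -, rfl⟩ := (mem_bad_iff hL x).1 hx
  exact isClosed_P 0 c

/-- The good open set of the line. -/
noncomputable def Ug (hL : IsLefschetzPencil k n i d F H) : (CohB1.ProjSpace 1 k).Opens :=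
  ⟨((bad hL : Finset (CohB1.ProjSpace 1 k)) : Set (CohB1.ProjSpace 1 k))ᶜ, (isClosed_bad hL).isOpen_compl⟩

theorem mem_Ug_iff (hL : IsLefschetzPencil k n i d F H) (x : CohB1.ProjSpace 1 k) :
    x ∈ Ug hL ↔ ∀ c : k, x = P 0 c → Transversal k n 1 (secToSpec i {F + c • H}) := by
  change ¬ (x ∈ bad hL) ↔ _
  rw [mem_bad_iff]
  push Not
  constructor
  · intro h c hc
    by_contra h'
    exact h c h' hc
  · intro h c hc h'
    exact hc (h c h')

theorem bad_eq_compl (hL : IsLefschetzPencil k n i d F H) :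
    ((bad hL : Finset (CohB1.ProjSpace 1 k)) : Set (CohB1.ProjSpace 1 k)) = (Set.range (Ug hL).ι.base)ᶜ := by
  have h : Set.range (Ug hL).ι.base = ((Ug hL : (CohB1.ProjSpace 1 k).Opens) : Set _) := by
    exact Scheme.Opens.range_ι _
  rw [h]
  exact (compl_compl _).symm

theorem Pinf_mem (hL : IsLefschetzPencil k n i d F H) : P 1 (0 : k) ∈ Ug hL :=
  (mem_Ug_iff hL _).2 fun c hc => absurd hc (Pinf_ne c)

theorem genPt_mem (hL : IsLefschetzPencil k n i d F H) : Groth.Agent.Sga5.ProjConn.genPt 1 k ∈ Ug hL :=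
  (mem_Ug_iff hL _).2 fun c hc => absurd hc (genPt_ne_P 0 c)

theorem connectedSpace_Ug (hL : IsLefschetzPencil k n i d F H) : ConnectedSpace (Ug hL) := by
  let g : Ug hL := ⟨_, genPt_mem hL⟩
  have hg : ∀ x : Ug hL, g ⤳ x := fun x =>
    (subtype_specializes_iff _ _).2 (Groth.Agent.Sga4h.BidGeoP1.genPt_specializes k 1 x.1)
  have h5 : closure ({g} : Set (Ug hL)) = Set.univ := Set.eq_univ_of_forall fun x => (hg x).mem_closure
  have h6 : IsIrreducible (Set.univ : Set (Ug hL)) := h5 ▸ isIrreducible_singleton.closure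
  exact connectedSpace_iff_univ.2 h6.isConnected

variable [IsClosedImmersion i] [IrreducibleSpace X]
  [SmoothOfRelativeDimension n (i ≫ CohB1.ProjSpace.toSpec r k)]

theorem mem_smoothLocus (hn : 1 ≤ n) (hL : IsLefschetzPencil k n i d F H)
    (hH : Transversal k n 1 (secToSpec i {H})) (hρ : LefMon.IsPencilFibration i F H b ρ)
    [LocallyOfFinitePresentation ρ] [Flat ρ]
    (z : X') (hz : ρ z ∈ Ug hL) : z ∈ ρ.smoothLocus := by
  rcases point_cases (ρ z) with h | h | ⟨c, hc⟩
  · exact mem_smoothLocus_of_generic hn hL hρ z h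
  · obtain ⟨m, -, hm⟩ := isPullback_lineInf hρ
    have h1 := smooth_of_transversal hn hH
    have h2 : Smooth (secToSpec i {H}) := SmoothOfRelativeDimension.smooth (n - 1) _
    have h3 : z ∈ Set.range m := (mem_range_iff hm z).2 ((mem_support_iff 1 0 _).2 h)
    obtain ⟨y, rfl⟩ := h3
    refine (mem_smoothLocus_iff hm y).1 ?_
    have h6 : y ∈ (secToSpec i {H}).smoothLocus := by
      rw [Scheme.Hom.smoothLocus_eq_top]
      trivial
    exact h6
  · refine mem_smoothLocus_of_transversal hn hρ ((mem_Ug_iff hL _).1 hz c hc) z ?_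
    rw [fieldPt_eq, range_pt_eq]
    exact hc

/-- The pencil is smooth over the good open set. -/
theorem smooth_restrict (hn : 1 ≤ n) (hL : IsLefschetzPencil k n i d F H)
    (hH : Transversal k n 1 (secToSpec i {H})) (hρ : LefMon.IsPencilFibration i F H b ρ) :
    SmoothOfRelativeDimension (n - 1) (pullback.snd ρ (Ug hL).ι) := by
  have h1 := locallyOfFinitePresentation_rho hρ
  have h2 := flat_rho_of_isLefschetzPencil (n := n) hL hρ
  refine Groth.Agent.Lefpen.H370.SmoothRel.of_forall_smoothLocus (IsPullback.of_hasPullback ρ (Ug hL).ι) (n - 1)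
    (relDim_smoothLocus hn hL hρ) ?_
  intro z
  refine mem_smoothLocus hn hL hH hρ _ ?_
  have h3 := congrArg (fun f => f z) (pullback.condition (f := ρ) (g := (Ug hL).ι))
  simp only [Scheme.Hom.comp_apply] at h3
  rw [h3]
  exact (pullback.snd ρ (Ug hL).ι z).2

end Pencil

end Groth.Agent.Lefpen.H711.PencilOpen
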