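import Groth.Agent.Lefpen.H714.EulerAlg

/-!
# The Euler characteristic drop of the Picard–Lefschetz exact sequence (algebra)

`A → B` bijective in degrees `≠ m, m + 1`, and `0 → A^m → B^m → V → A^{m+1} → B^{m+1} → 0` exact:
`χ(A) = χ(B) + (-1)^{m+1} lg V`.
-/

set_option autoImplicit false

namespace Groth.Agent.Lefpen.H711.DropAlg

open Groth.Agent.Lefpen.H714.EulerAlg

theorem drop {A B : ℕ → Type*} [∀ n, AddCommGroup (A n)] [∀ n, AddCommGroup (B n)]
    (r : ∀ n, A n →+ B n) (m : ℕ) (hbij : ∀ i, i ≠ m → i ≠ m + 1 → Function.Bijective (r i))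
    (hinj : Function.Injective (r m)) (hsurj : Function.Surjective (r (m + 1)))
    {V : Type*} [AddCommGroup V] [Finite V] (φ : B m →+ V) (ψ : V →+ A (m + 1))
    (h1 : φ.ker = (r m).range) (h2 : ψ.ker = φ.range) (h3 : (r (m + 1)).ker = ψ.range)
    (hA : Good A) : Good B ∧ chi A = chi B + (-1 : ℝ) ^ (m + 1) * lg V := by
  have hfA := hA.fin
  have e1 : Function.Exact (r m) φ := fun x => by
    rw [← AddMonoidHom.mem_ker, h1]
    rfl
  have e2 : Function.Exact φ ψ := fun x => by
    rw [← AddMonoidHom.mem_ker, h2]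
    rfl
  have e3 : Function.Exact ψ (r (m + 1)) := fun x => by
    rw [← AddMonoidHom.mem_ker, h3]
    rfl
  have hfB : ∀ n, Finite (B n) := by
    intro n
    by_cases hm : n = m
    · subst hm
      exact finite_of_exact _ _ e1
    · by_cases hm' : n = m + 1
      · subst hm'
        exact Finite.of_surjective _ hsurj
      · exact Finite.of_surjective _ (hbij n hm hm').2
  obtain ⟨b, hb⟩ := hA.bdd
  have hbB : ∀ n, max b (m + 1) < n → Subsingleton (B n) := by
    intro n hn
    have h4 := hb n (lt_of_le_of_lt (le_max_left _ _) hn)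
    have h5 : m + 1 < n := lt_of_le_of_lt (le_max_right _ _) hn
    exact (hbij n (by omega) (by omega)).2.subsingleton
  have hbA : ∀ n, max b (m + 1) < n → Subsingleton (A n) := fun n hn =>
    hb n (lt_of_le_of_lt (le_max_left _ _) hn)
  refine ⟨⟨hfB, _, hbB⟩, ?_⟩
  rw [chi_eq_sum _ hbA, chi_eq_sum _ hbB, ← sub_eq_iff_eq_add', ← Finset.sum_sub_distrib]
  have hl : ∀ n, n ≠ m → n ≠ m + 1 → lg (A n) = lg (B n) := fun n hn hn' =>
    lg_congr (Equiv.ofBijective _ (hbij n hn hn'))
  have k1 : lg (B m) = lg (A m) + rk φ := by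
    rw [lg_eq_rk_add_rk _ _ e1, lg_eq_rk_of_injective _ hinj]
  have k2 : lg V = rk φ + rk ψ := lg_eq_rk_add_rk _ _ e2
  have k3 : lg (A (m + 1)) = rk ψ + lg (B (m + 1)) := by
    have k4 : rk (r (m + 1)) = lg (B (m + 1)) := by
      rw [rk, AddMonoidHom.range_eq_top.2 hsurj]
      exact lg_congr AddSubgroup.topEquiv.toEquiv
    rw [lg_eq_rk_add_rk _ _ e3, k4]
  have hsub : ({m, m + 1} : Finset ℕ) ⊆ Finset.range (max b (m + 1) + 1) := by
    intro x hx
    simp only [Finset.mem_insert, Finset.mem_singleton] at hx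
    rw [Finset.mem_range]
    have := le_max_right b (m + 1)
    omega
  rw [← Finset.sum_subset hsub, Finset.sum_pair (by omega), k1, k3, k2]
  · rw [pow_succ]
    ring
  · intro x _ hx
    simp only [Finset.mem_insert, Finset.mem_singleton, not_or] at hx
    rw [hl x hx.1 hx.2, sub_self]

end Groth.Agent.Lefpen.H711.DropAlg
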