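import Groth.Agent.Divis.CartierStalk
import Mathlib.AlgebraicGeometry.Morphisms.ClosedImmersion

/-!
# A closed subscheme of `X'` mapping isomorphically onto a closed subscheme of `X`

`exists_iso_of_local`: criterion on an affine cover of `X`.
-/

set_option autoImplicit false
universe u

open CategoryTheory AlgebraicGeometry Limits TopologicalSpace Opposite

namespace Groth.Agent.Lefpen.H711.FibIso

variable {X X' : Scheme.{u}} (b : X' ⟶ X) (L : X'.IdealSheafData) (M : X.IdealSheafData)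

/-- The local condition over the affine open `U`. -/
structure Loc (U : X.affineOpens) where
  /-- an affine open of `X'` containing the part of `L` over `U` -/
  V : X'.affineOpens
  le : V.1 ≤ b ⁻¹ᵁ U.1
  mem : ∀ x' ∈ b ⁻¹ᵁ U.1, x' ∈ L.support → x' ∈ V.1
  surj : ∀ β : Γ(X', V.1), ∃ a : Γ(X, U.1), β - (b.appLE U.1 V.1 le).hom a ∈ L.ideal V
  ker : ∀ a : Γ(X, U.1), (b.appLE U.1 V.1 le).hom a ∈ L.ideal V ↔ a ∈ M.ideal U

variable {b L M}

theorem Loc.preimage_eq {U : X.affineOpens} (D : Loc b L M U) :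
    (L.subschemeι ≫ b) ⁻¹ᵁ U.1 = L.subschemeι ⁻¹ᵁ D.V.1 := by
  ext z
  constructor
  · intro hz
    exact D.mem _ hz (Groth.Agent.Divis.CartierStalk.subschemeι_mem_support L z)
  · intro hz
    exact D.le hz

theorem ker_app_subschemeι (V : X'.affineOpens) :
    RingHom.ker (L.subschemeι.app V.1).hom = L.ideal V := by
  have := congrArg (fun J : X'.IdealSheafData => J.ideal V) (Scheme.IdealSheafData.ker_subschemeι L)
  rw [← this, Scheme.Hom.ker_apply]

theorem Loc.appLE_comp {U : X.affineOpens} (D : Loc b L M U) :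
    b.appLE U.1 D.V.1 D.le ≫ L.subschemeι.app D.V.1 =
      (L.subschemeι ≫ b).appLE U.1 (L.subschemeι ⁻¹ᵁ D.V.1) D.preimage_eq.ge := by
  rw [← Scheme.Hom.appLE_comp_appLE L.subschemeι b U.1 D.V.1 _ D.le le_rfl]
  congr 1
  exact Scheme.Hom.app_eq_appLE _

theorem Loc.surjective {U : X.affineOpens} (D : Loc b L M U) :
    Function.Surjective ((L.subschemeι ≫ b).appLE U.1 (L.subschemeι ⁻¹ᵁ D.V.1) D.preimage_eq.ge) := by
  intro z
  obtain ⟨β, rfl⟩ := L.subschemeι.app_surjective D.V.1 D.V.2 z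
  obtain ⟨a, ha⟩ := D.surj β
  refine ⟨a, ?_⟩
  rw [← D.appLE_comp]
  rw [← ker_app_subschemeι, RingHom.mem_ker, map_sub, sub_eq_zero] at ha
  exact ha.symm

theorem Loc.ker_appLE {U : X.affineOpens} (D : Loc b L M U) :
    RingHom.ker ((L.subschemeι ≫ b).appLE U.1 (L.subschemeι ⁻¹ᵁ D.V.1) D.preimage_eq.ge).hom = M.ideal U := by
  ext a
  rw [← D.ker a, RingHom.mem_ker, ← D.appLE_comp, ← ker_app_subschemeι, RingHom.mem_ker]
  rfl

theorem appLE_surjective_of_eq {Z : Scheme.{u}} (f : Z ⟶ X) (U : X.Opens) (V : Z.Opens) (e : f ⁻¹ᵁ U = V)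
    (h : Function.Surjective (f.appLE U V e.ge)) : Function.Surjective (f.app U) := by
  subst e
  rw [Scheme.Hom.app_eq_appLE]
  exact h

theorem app_surjective_of_eq {Z : Scheme.{u}} (f : Z ⟶ X) (U V : X.Opens) (e : U = V)
    (h : Function.Surjective (f.app U)) : Function.Surjective (f.app V) := by
  subst e
  exact h

theorem ker_app_eq_of_eq {Z : Scheme.{u}} (f : Z ⟶ X) (U : X.Opens) (V : Z.Opens) (e : f ⁻¹ᵁ U = V) :
    RingHom.ker (f.app U).hom = RingHom.ker (f.appLE U V e.ge).hom := by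
  subst e
  rw [Scheme.Hom.app_eq_appLE]

theorem isClosedImmersion (hD : ∀ x : X, ∃ U : X.affineOpens, x ∈ U.1 ∧ Nonempty (Loc b L M U)) :
    IsClosedImmersion (L.subschemeι ≫ b) := by
  choose U hU D using hD
  have hcov : ⨆ x, (U x).1 = ⊤ := by
    rw [eq_top_iff]
    intro x _
    exact Opens.mem_iSup.2 ⟨x, hU x⟩
  rw [IsZariskiLocalAtTarget.iff_of_iSup_eq_top (P := @IsClosedImmersion) _ hcov]
  intro x
  obtain ⟨D⟩ := D x
  have hUa : IsAffine (U x).1.toScheme := (U x).2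
  have hVa : IsAffineOpen ((L.subschemeι ≫ b) ⁻¹ᵁ (U x).1) := by
    rw [D.preimage_eq]
    exact D.V.2.preimage _
  have hVa' : IsAffine ((L.subschemeι ≫ b) ⁻¹ᵁ (U x).1).toScheme := hVa
  apply IsClosedImmersion.of_surjective_of_isAffine
  have h1 := appLE_surjective_of_eq _ _ _ D.preimage_eq D.surjective
  have h3 := app_surjective_of_eq (L.subschemeι ≫ b) (U x).1 ((U x).1.ι ''ᵁ ⊤)
    (Scheme.Opens.ι_image_top _).symm h1
  rw [morphismRestrict_appTop]
  exact ((ConcreteCategory.bijective_of_isIso (L.subscheme.presheaf.map (eqToHom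
    (image_morphismRestrict_preimage (L.subschemeι ≫ b) (U x).1 ⊤)).op)).2).comp h3

theorem ker_eq [QuasiCompact (L.subschemeι ≫ b)]
    (hD : ∀ x : X, ∃ U : X.affineOpens, x ∈ U.1 ∧ Nonempty (Loc b L M U)) :
    (L.subschemeι ≫ b).ker = M := by
  choose U hU D using hD
  have hcov : ⨆ x, (U x).1 = ⊤ := by
    rw [eq_top_iff]
    intro x _
    exact Opens.mem_iSup.2 ⟨x, hU x⟩
  apply Scheme.IdealSheafData.ext_of_iSup_eq_top U hcov
  intro x
  obtain ⟨D⟩ := D x
  rw [Scheme.Hom.ker_apply, ker_app_eq_of_eq _ _ _ D.preimage_eq, D.ker_appLE]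

theorem exists_iso_of_local (hD : ∀ x : X, ∃ U : X.affineOpens, x ∈ U.1 ∧ Nonempty (Loc b L M U)) :
    ∃ e : L.subscheme ≅ M.subscheme, e.hom ≫ M.subschemeι = L.subschemeι ≫ b := by
  have h1 := isClosedImmersion hD
  have h2 := ker_eq hD
  have h3 : M.subschemeι.ker = (L.subschemeι ≫ b).ker := by
    rw [h2, Scheme.IdealSheafData.ker_subschemeι]
  have h4 := IsClosedImmersion.isIso_lift M.subschemeι (L.subschemeι ≫ b) h3
  exact ⟨asIso (IsClosedImmersion.lift M.subschemeι (L.subschemeι ≫ b) h3.le),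
    IsClosedImmersion.lift_fac _ _ _⟩

end Groth.Agent.Lefpen.H711.FibIso
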