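import Mathlib.RingTheory.Ideal.Operations
import Mathlib.RingTheory.Ideal.Span
import Mathlib.Algebra.GroupWithZero.NonZeroDivisors

/-!
# Algebra of the fibres of a pencil in a blow-up chart

`φ : A → B` is the chart of the blow-up of `A` in `J = (g, h)` where `g` generates; `u : B` with `g u = h`.
If `g` is a nonzerodivisor modulo `h` then `A / h ≃ B / u`.
-/

set_option autoImplicit false

namespace Groth.Agent.Lefpen.H711.RatioAlg

variable {A B : Type*} [CommRing A] [CommRing B] (φ : A →+* B) {g h : A}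

theorem mem_pair_pow_succ {n : ℕ} {m : A} (hm : m ∈ (Ideal.span {g, h}) ^ (n + 1)) :
    ∃ a m' : A, m' ∈ (Ideal.span {g, h}) ^ n ∧ m = a * g ^ (n + 1) + h * m' := by
  induction n generalizing m with
  | zero =>
    rw [zero_add, pow_one, Ideal.mem_span_pair] at hm
    obtain ⟨a, b, rfl⟩ := hm
    exact ⟨a, b, by simp, by ring⟩
  | succ n ih =>
    rw [pow_succ] at hm
    refine Submodule.mul_induction_on hm ?_ ?_
    · intro x hx y hy
      obtain ⟨a, m', hm', rfl⟩ := ih hx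
      rw [Ideal.mem_span_pair] at hy
      obtain ⟨c, e, rfl⟩ := hy
      refine ⟨a * c, c * g * m' + e * (a * g ^ (n + 1) + h * m'), ?_, by ring⟩
      have hg : g ∈ Ideal.span {g, h} := Ideal.subset_span (by simp)
      refine add_mem ?_ ?_
      · rw [pow_succ']
        exact Ideal.mul_mem_mul (Ideal.mul_mem_left _ _ hg) hm'
      · exact Ideal.mul_mem_left _ _ hx
    · rintro x y ⟨a, m', hm', rfl⟩ ⟨c, e, he, rfl⟩
      exact ⟨a + c, m' + e, add_mem hm' he, by ring⟩

/-- Surjectivity of `A → B / u`. -/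
theorem exists_sub_mem (hg : φ g ∈ nonZeroDivisors B)
    (h2 : ∀ β : B, ∃ (n : ℕ) (m : A), m ∈ (Ideal.span {g, h}) ^ n ∧ φ g ^ n * β = φ m)
    (h3 : ∀ (n : ℕ) (m : A), m ∈ (Ideal.span {g, h}) ^ n → ∃ γ : B, φ m = φ g ^ n * γ)
    {u : B} (hu : φ g * u = φ h) (β : B) : ∃ a : A, β - φ a ∈ Ideal.span {u} := by
  obtain ⟨n, m, hm, hβ⟩ := h2 β
  cases n with
  | zero =>
    refine ⟨m, ?_⟩
    rw [pow_zero, one_mul] at hβ
    rw [hβ, sub_self]
    exact zero_mem _
  | succ n =>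
    obtain ⟨a, m', hm', rfl⟩ := mem_pair_pow_succ hm
    obtain ⟨γ, hγ⟩ := h3 n m' hm'
    refine ⟨a, Ideal.mem_span_singleton.mpr ⟨γ, ?_⟩⟩
    refine (mul_cancel_left_mem_nonZeroDivisors (pow_mem hg (n + 1))).1 ?_
    rw [mul_sub, hβ, map_add, map_mul, map_mul, map_pow, hγ, ← hu]
    ring

/-- The kernel of `A → B / u` is generated by `h`. -/
theorem map_mem_span_iff (hφ : Function.Injective φ)
    (h2 : ∀ β : B, ∃ (n : ℕ) (m : A), m ∈ (Ideal.span {g, h}) ^ n ∧ φ g ^ n * β = φ m)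
    (h5 : ∀ a : A, h ∣ g * a → h ∣ a)
    {u : B} (hu : φ g * u = φ h) (a : A) : φ a ∈ Ideal.span {u} ↔ a ∈ Ideal.span {h} := by
  rw [Ideal.mem_span_singleton, Ideal.mem_span_singleton]
  constructor
  · rintro ⟨β, hβ⟩
    obtain ⟨n, m, hm, hm'⟩ := h2 β
    have h6 : φ (g ^ (n + 1) * a) = φ (h * m) := by
      rw [map_mul, map_mul, map_pow, hβ, ← hu, ← hm']
      ring
    have h7 : ∀ (N : ℕ) (x : A), h ∣ g ^ N * x → h ∣ x := by
      intro N
      induction N with
      | zero => intro x hx; simpa using hx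
      | succ N ih =>
        intro x hx
        rw [pow_succ, mul_assoc] at hx
        exact h5 x (ih _ hx)
    exact h7 _ _ ⟨m, hφ h6⟩
  · rintro ⟨x, rfl⟩
    exact ⟨φ g * φ x, by rw [map_mul, ← hu]; ring⟩

end Groth.Agent.Lefpen.H711.RatioAlg
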