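import Groth.Agent.Lefpen.H711.PencilMap
import Groth.Agent.Lefpen.H711.RatioAlg
import Groth.Agent.Lefpen.H711.FibIso

/-!
# The fibres of the pencil map on the blow-up of the base locus

`b : X' ⟶ X` is a blow-up of `secIdeal i (range s)`, `s : Fin 2 → Form r k d`, `rho : X' ⟶ P^1_k` the morphism defined by
`s`.  `exists_fibre_iso`: for `λ` with `λ_{a'} ≠ 0` and `M = λ_0 s_0 + λ_1 s_1` such that `s_a` is a nonzerodivisor modulo
`M`, the closed subscheme `λ_0 T_0 + λ_1 T_1 = 0` of `X'` is carried by `b` isomorphically onto `Sec i {M}`.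
-/

set_option autoImplicit false
set_option linter.unusedSectionVars false
universe u

open CategoryTheory AlgebraicGeometry Limits TopologicalSpace Opposite HomogeneousLocalization

namespace Groth.Agent.Lefpen.H711.PencilLoc

open LefPen Groth.Agent.Divis.IdealComap Groth.Agent.Fdesc.LocGen Groth.Agent.Lefpen.H705.HypIdeal
open Groth.Agent.Divis.CartierBasic Groth.Agent.Divis.CartierStalk Groth.Agent.Lefpen.H705.SecIdeal
open Groth.Agent.Lefpen.H711.RatioSec Groth.Agent.Lefpen.H711.PencilMap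
open Groth.Agent.Divis.BlowChart Groth.Agent.Divis.BlowChart2

variable {r : ℕ} {k : Type u} [Field k] {d : ℕ} {X X' : Scheme.{u}} (i : X ⟶ CohB1.ProjSpace r k) (b : X' ⟶ X)

theorem comap_secIdeal (s : Set (Form r k d)) : (secIdeal i s).comap b = secIdeal (b ≫ i) s :=
  (Scheme.IdealSheafData.comap_comp _ _ _).symm

theorem appLE_eqn (j : Fin (r + 1)) (U : X.Opens) (hU : U ≤ i ⁻¹ᵁ chart r k j) (V : X'.Opens) (e : V ≤ b ⁻¹ᵁ U)
    (hV : V ≤ (b ≫ i) ⁻¹ᵁ chart r k j) (G : Form r k d) :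
    (b.appLE U V e).hom (eqn i j U hU G) = eqn (b ≫ i) j V hV G := by
  rw [eqn, eqn]
  exact congr($(congrArg CommRingCat.Hom.hom (Scheme.Hom.appLE_comp_appLE b i (chart r k j) U V hU e)) (dehom G j))

variable {i b} {s : Fin 2 → Form r k d}

theorem isEff (hb : BlowUp.IsBlowUp b (secIdeal i (Set.range s))) :
    BlowUp.IsEffCartierIdeal (secIdeal (b ≫ i) (Set.range s)) := by
  rw [← comap_secIdeal]; exact hb.1

/-- The chart of the blow-up over `U` where `s a` generates is the intersection of the global chart with `b⁻¹ U`. -/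
theorem chart_eq (a : Fin 2) (j : Fin (r + 1)) (U : X.affineOpens) (hU : U.1 ≤ i ⁻¹ᵁ chart r k j) :
    Groth.Agent.Divis.BlowChart2.chart b (secIdeal i (Set.range s)) U (eqn i j U.1 hU (s a)) =
      RatioSec.U (b ≫ i) s a ⊓ b ⁻¹ᵁ U.1 := by
  have hgerm : ∀ (W : X'.affineOpens) (e : W.1 ≤ b ⁻¹ᵁ U.1) (x' : X') (hx : x' ∈ W.1)
      (hj : (b ≫ i) x' ∈ LefPen.chart r k j),
      (Ideal.span {(b.appLE U.1 W.1 e).hom (eqn i j U.1 hU (s a))}).map (X'.presheaf.germ W.1 x' hx).hom =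
        Ideal.span {stalkEqn (b ≫ i) j x' hj (s a)} := by
    intro W e x' hx hj
    have hV : W.1 ≤ (b ≫ i) ⁻¹ᵁ LefPen.chart r k j := fun z hz => hU (e hz)
    rw [appLE_eqn i b j U.1 hU W.1 e hV, Ideal.map_span, Set.image_singleton, ← germ_eqn (b ≫ i) j W.1 hV x' hx]
  ext x'
  constructor
  · intro hx'
    obtain ⟨W, e, hxW, hW⟩ := (mem_chart_iff b _ U _ x').1 hx'
    have hj : (b ≫ i) x' ∈ LefPen.chart r k j := hU (e hxW)
    refine ⟨(gen_iff_stalkIdeal j hj).2 ?_, e hxW⟩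
    rw [← comap_secIdeal, stalkIdeal_eq _ W hxW, hW, hgerm W e x' hxW hj]
  · rintro ⟨hx', hxU⟩
    obtain ⟨W, hW, hxW, hle⟩ := exists_isAffineOpen_mem_and_subset
      (U := RatioSec.U (b ≫ i) s a ⊓ b ⁻¹ᵁ U.1) (x := x') ⟨hx', hxU⟩
    refine (mem_chart_iff b _ U _ x').2 ⟨⟨W, hW⟩, fun z hz => (hle hz).2, hxW, ?_⟩
    rw [hW.ideal_ext_iff]
    intro y hy
    have hj : (b ≫ i) y ∈ LefPen.chart r k j := hU (hle hy).2
    rw [hgerm ⟨W, hW⟩ (fun z hz => (hle hz).2) y hy hj]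
    have h1 := Gen.stalkIdeal_eq_span (show Gen (b ≫ i) s a y from (hle hy).1) j hj
    rw [← comap_secIdeal, stalkIdeal_eq _ ⟨W, hW⟩ hy] at h1
    exact h1

theorem appLE_chart_injective (J : X.IdealSheafData) (hb : BlowUp.IsBlowUp b J) (U : X.affineOpens)
    {g : Γ(X, U.1)} (hg : g ∈ J.ideal U) (hg0 : g ∈ nonZeroDivisors Γ(X, U.1)) :
    Function.Injective (b.appLE U.1 (Groth.Agent.Divis.BlowChart2.chart b J U g) (chart_le b J U g)).hom := by
  obtain ⟨θ, hθ⟩ := exists_ringEquiv_chart b J U hb hg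
  intro x y hxy
  rw [← hθ, ← hθ] at hxy
  have h1 := congrArg Subtype.val (θ.injective hxy)
  have h2 : algebraMap Γ(X, U.1) (Localization.Away g) x = algebraMap _ _ y := h1
  have h3 : Submonoid.powers g ≤ nonZeroDivisors Γ(X, U.1) := by
    rintro _ ⟨n, rfl⟩
    exact pow_mem hg0 n
  exact IsLocalization.injective (Localization.Away g) h3 h2

theorem span_pair_change {A : Type*} [CommRing A] {x y z : A} (c e : A) (he : IsUnit e) (hz : z = c * x + e * y) :
    Ideal.span {x, z} = Ideal.span {x, y} := by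
  obtain ⟨v, rfl⟩ := he
  apply le_antisymm
  · rw [Ideal.span_le]
    rintro w (rfl | hw)
    · exact Ideal.subset_span (by simp)
    · rw [Set.mem_singleton_iff] at hw
      rw [hw, hz]
      exact Ideal.mem_span_pair.2 ⟨c, v, by ring⟩
  · rw [Ideal.span_le]
    rintro w (rfl | hw)
    · exact Ideal.subset_span (by simp)
    · rw [Set.mem_singleton_iff] at hw
      rw [hw]
      refine Ideal.mem_span_pair.2 ⟨-((v⁻¹ : Aˣ) : A) * c, ((v⁻¹ : Aˣ) : A), ?_⟩
      rw [hz, mul_add, ← mul_assoc, ← mul_assoc, Units.inv_mul]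
      ring

theorem secIdeal_singleton {Z : Scheme.{u}} {m e : ℕ} (g : Z ⟶ CohB1.ProjSpace m k) (L : Form m k e) :
    secIdeal g {L} = (hypIdeal L).comap g := by
  rw [secIdeal, iSup_singleton]

section Main

variable (hb : BlowUp.IsBlowUp b (secIdeal i (Set.range s))) (p : X' ⟶ Spec (CommRingCat.of k))
  (hp : p = (b ≫ i) ≫ CohB1.ProjSpace.toSpec r k)
  {a a' : Fin 2} (haa : a ≠ a') (lam lam' : k) (hlam : lam' ≠ 0) (L : Form 1 k 1)
  (hL : L.1 = MvPolynomial.C lam * MvPolynomial.X a + MvPolynomial.C lam' * MvPolynomial.X a')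
  (M : Form r k d) (hM : M = lam • s a + lam' • s a')

include haa in
theorem eq_or_eq (c : Fin 2) : c = a ∨ c = a' := by
  revert haa; revert a a' c; decide

include haa in
theorem range_eq : Set.range s = {s a, s a'} := by
  ext x
  constructor
  · rintro ⟨c, rfl⟩
    rcases eq_or_eq haa c with rfl | rfl
    · exact Or.inl rfl
    · exact Or.inr rfl
  · rintro (rfl | h)
    · exact ⟨a, rfl⟩
    · rw [Set.mem_singleton_iff] at h
      exact ⟨a', h.symm⟩

include hL in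
theorem ev_rho_L (W : X'.Opens) (hW : W ≤ rho (isEff hb) p ⁻¹ᵁ chart 1 k a) :
    ev (rho (isEff hb) p) a W hW L.1 = cst p W lam +
      cst p W lam' * ores (hW.trans (rho_preimage_chart (isEff hb) p a).le) (rat (isEff hb) a a') := by
  rw [hL, map_add, map_mul, map_mul, ev_rho_C, ev_rho_C, ev_rho_X, ev_rho_X, rat_self, map_one, mul_one]

include hp hL hM in
theorem eqn_mul_ev (W : X'.Opens) (hW : W ≤ rho (isEff hb) p ⁻¹ᵁ chart 1 k a) (j : Fin (r + 1))
    (hj : W ≤ (b ≫ i) ⁻¹ᵁ chart r k j) :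
    eqn (b ≫ i) j W hj (s a) * ev (rho (isEff hb) p) a W hW L.1 = eqn (b ≫ i) j W hj M := by
  rw [ev_rho_L hb p lam lam' L hL W hW, mul_add, mul_left_comm, eqn_mul_rat, hM, eqn_add, eqn_smul, eqn_smul, hp]
  ring

include haa hlam hL in
theorem mem_U_of_mem_support (x' : X') (hx' : x' ∈ ((hypIdeal L).comap (rho (isEff hb) p)).support) :
    x' ∈ RatioSec.U (b ≫ i) s a := by
  obtain ⟨c, hc⟩ := exists_gen (isEff hb) x'
  rcases eq_or_eq haa c with rfl | rfl
  · exact hc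
  · have hxc : x' ∈ rho (isEff hb) p ⁻¹ᵁ chart 1 k c := by
      rw [rho_preimage_chart]; exact hc
    rw [← secIdeal_singleton] at hx'
    have h1 := (mem_support_secIdeal_iff (rho (isEff hb) p) {L} c x' hxc).1 hx' L rfl
    rw [← germ_eqn (rho (isEff hb) p) c _ le_rfl x' hxc, eqn_eq_ev] at h1
    have hL' : L.1 = MvPolynomial.C lam' * MvPolynomial.X c + MvPolynomial.C lam * MvPolynomial.X a := by
      rw [hL]; exact add_comm _ _
    rw [ev_rho_L hb p lam' lam L hL' _ le_rfl, map_add, map_mul] at h1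
    have hu : IsUnit (X'.presheaf.germ (rho (isEff hb) p ⁻¹ᵁ chart 1 k c) x' hxc
        (cst p (rho (isEff hb) p ⁻¹ᵁ chart 1 k c) lam')) := by
      exact ((IsUnit.mk0 lam' hlam).map (cst p (rho (isEff hb) p ⁻¹ᵁ chart 1 k c))).map
        (X'.presheaf.germ (rho (isEff hb) p ⁻¹ᵁ chart 1 k c) x' hxc).hom
    have hr : IsUnit (X'.presheaf.germ (RatioSec.U (b ≫ i) s c) x' hc (rat (isEff hb) c a)) := by
      by_contra hcon
      rw [← mem_nonunits_iff, ← IsLocalRing.mem_maximalIdeal] at hcon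
      have h2 : X'.presheaf.germ (rho (isEff hb) p ⁻¹ᵁ chart 1 k c) x' hxc
          (ores (le_rfl.trans (rho_preimage_chart (isEff hb) p c).le) (rat (isEff hb) c a)) =
          X'.presheaf.germ (RatioSec.U (b ≫ i) s c) x' hc (rat (isEff hb) c a) :=
        TopCat.Presheaf.germ_res_apply' _ _ _ _ _
      rw [h2] at h1
      have h3 := (Ideal.add_mem_iff_left _ (Ideal.mul_mem_left _ _ hcon)).1 h1
      exact (IsLocalRing.mem_maximalIdeal _).1 h3 hu
    have h4 := (X'.mem_basicOpen _ _ hc).2 hr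
    rw [basicOpen_rat] at h4
    exact h4.2

include hp haa hlam hL hM in
theorem nonempty_loc (j : Fin (r + 1)) (U : X.affineOpens) (hU : U.1 ≤ i ⁻¹ᵁ chart r k j)
    (hreg0 : eqn i j U.1 hU (s a) ∈ nonZeroDivisors Γ(X, U.1))
    (hreg : ∀ x : Γ(X, U.1), eqn i j U.1 hU M ∣ eqn i j U.1 hU (s a) * x → eqn i j U.1 hU M ∣ x) :
    Nonempty (FibIso.Loc b ((hypIdeal L).comap (rho (isEff hb) p)) (secIdeal i {M}) U) := by
  set g := eqn i j U.1 hU (s a) with hg
  set hh := eqn i j U.1 hU M with hhh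
  have hJU : (secIdeal i (Set.range s)).ideal U = Ideal.span {g, hh} := by
    rw [secIdeal_ideal_of_le i _ j U hU, range_eq haa, Set.image_pair]
    refine (span_pair_change (cst (i ≫ CohB1.ProjSpace.toSpec r k) U.1 lam)
      (cst (i ≫ CohB1.ProjSpace.toSpec r k) U.1 lam') ((IsUnit.mk0 lam' hlam).map _) ?_).symm
    rw [hhh, hM, eqn_add, eqn_smul, eqn_smul]
  have hgJ : g ∈ (secIdeal i (Set.range s)).ideal U := by
    rw [hJU]; exact Ideal.subset_span (by simp)
  have hVaff := isAffineOpen_chart b (secIdeal i (Set.range s)) U hb hgJ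
  have hVeq := chart_eq (i := i) (b := b) (s := s) a j U hU
  set V := Groth.Agent.Divis.BlowChart2.chart b (secIdeal i (Set.range s)) U g with hV
  have hVU : V ≤ b ⁻¹ᵁ U.1 := chart_le b _ U g
  have hVj : V ≤ (b ≫ i) ⁻¹ᵁ chart r k j := fun z hz => hU (hVU hz)
  have hVa : V ≤ rho (isEff hb) p ⁻¹ᵁ chart 1 k a := by
    rw [rho_preimage_chart, hVeq]; exact inf_le_left
  set φ := (b.appLE U.1 V hVU).hom with hφ
  have hφinj : Function.Injective φ := appLE_chart_injective _ hb U hgJ hreg0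
  have hφg : φ g = eqn (b ≫ i) j V hVj (s a) := appLE_eqn i b j U.1 hU V hVU hVj (s a)
  have hφh : φ hh = eqn (b ≫ i) j V hVj M := appLE_eqn i b j U.1 hU V hVU hVj M
  have hφg0 : φ g ∈ nonZeroDivisors Γ(X', V) := appLE_chart_mem_nonZeroDivisors b _ U hb hgJ
  have h2 : ∀ β : Γ(X', V), ∃ (n : ℕ) (m : Γ(X, U.1)), m ∈ (Ideal.span {g, hh}) ^ n ∧ φ g ^ n * β = φ m := by
    intro β
    rw [← hJU]
    exact exists_pow_mul_eq_appLE b _ U hb hgJ β
  have h3 : ∀ (n : ℕ) (m : Γ(X, U.1)), m ∈ (Ideal.span {g, hh}) ^ n → ∃ γ : Γ(X', V), φ m = φ g ^ n * γ := by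
    intro n m hm
    rw [← hJU] at hm
    exact exists_eq_pow_mul_appLE b _ U hb hgJ n hm
  have hu : φ g * ev (rho (isEff hb) p) a V hVa L.1 = φ hh := by
    rw [hφg, hφh]
    exact eqn_mul_ev hb p hp lam lam' L hL M hM V hVa j hVj
  have hLV : ((hypIdeal L).comap (rho (isEff hb) p)).ideal ⟨V, hVaff⟩ =
      Ideal.span {ev (rho (isEff hb) p) a V hVa L.1} := by
    rw [← secIdeal_singleton, secIdeal_ideal_of_le _ _ a ⟨V, hVaff⟩ hVa, Set.image_singleton, eqn_eq_ev]
  have hMU : (secIdeal i {M}).ideal U = Ideal.span {hh} := by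
    rw [secIdeal_ideal_of_le i _ j U hU, Set.image_singleton]
  refine ⟨⟨⟨V, hVaff⟩, hVU, ?_, ?_, ?_⟩⟩
  · intro x' hx' hs
    have h4 := mem_U_of_mem_support hb p haa lam lam' hlam L hL x' hs
    change x' ∈ V
    rw [hVeq]
    exact ⟨h4, hx'⟩
  · intro β
    rw [hLV]
    exact RatioAlg.exists_sub_mem φ hφg0 h2 h3 hu β
  · intro x
    rw [hLV, hMU]
    exact RatioAlg.map_mem_span_iff φ hφinj h2 hreg hu x

end Main

end Groth.Agent.Lefpen.H711.PencilLoc
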