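import Groth.Prelude.Def_LefMon
import Groth.Agent.Lefpen.H711.PencilLoc
import Groth.Agent.Flat2C.BlowExist

/-!
# Existence of the pencil fibration

* `secIdeal_eq_of_span`, `secIdeal_neg`, `secIdeal_smul`: the ideal of a section only depends on the local ideals.
* `isPencilFibration_rho`: if `G` is regular and `F` is regular and regular modulo `G` on the affine opens of `X`, a
  blow-up `b` of the base locus with the morphism defined by `[G : -F]` is a pencil fibration.
* `exists_isPencilFibration`.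
-/

set_option autoImplicit false
set_option linter.unusedSectionVars false
universe u

open CategoryTheory AlgebraicGeometry Limits TopologicalSpace Opposite HomogeneousLocalization

namespace Groth.Agent.Lefpen.H711.PencilExist

open LefPen Groth.Agent.Divis.IdealComap Groth.Agent.Fdesc.LocGen Groth.Agent.Lefpen.H705.HypIdeal
open Groth.Agent.Divis.CartierBasic Groth.Agent.Divis.CartierStalk Groth.Agent.Lefpen.H705.SecIdeal
open Groth.Agent.Lefpen.H711.RatioSec Groth.Agent.Lefpen.H711.PencilMap Groth.Agent.Lefpen.H711.PencilLoc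

variable {r : ℕ} {k : Type u} [Field k] {d : ℕ} {X X' : Scheme.{u}} (i : X ⟶ CohB1.ProjSpace r k)

theorem exists_affine_chart (x : X) :
    ∃ (U : X.affineOpens) (j : Fin (r + 1)), x ∈ U.1 ∧ U.1 ≤ i ⁻¹ᵁ chart r k j := by
  obtain ⟨j, hj⟩ := exists_mem_chart i x
  obtain ⟨U, hU, hxU, hle⟩ := exists_isAffineOpen_mem_and_subset (U := i ⁻¹ᵁ chart r k j) (x := x) hj
  exact ⟨⟨U, hU⟩, j, hxU, hle⟩

theorem secIdeal_eq_of_span {e : ℕ} (s : Set (Form r k d)) (s' : Set (Form r k e))
    (h : ∀ (j : Fin (r + 1)) (U : X.Opens) (hU : U ≤ i ⁻¹ᵁ chart r k j),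
      Ideal.span (eqn i j U hU '' s) = Ideal.span (eqn i j U hU '' s')) :
    secIdeal i s = secIdeal i s' := by
  choose U j hxU hle using exists_affine_chart i
  apply Scheme.IdealSheafData.ext_of_iSup_eq_top U
  · rw [eq_top_iff]
    intro x _
    exact Opens.mem_iSup.2 ⟨x, hxU x⟩
  · intro x
    rw [secIdeal_ideal_of_le i s (j x) (U x) (hle x), secIdeal_ideal_of_le i s' (j x) (U x) (hle x)]
    exact h (j x) (U x).1 (hle x)

theorem secIdeal_smul (c : k) (hc : c ≠ 0) (G : Form r k d) : secIdeal i {c • G} = secIdeal i {G} := by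
  apply secIdeal_eq_of_span
  intro j U hU
  rw [Set.image_singleton, Set.image_singleton, eqn_smul]
  exact Ideal.span_singleton_mul_left_unit ((IsUnit.mk0 c hc).map _) _

theorem secIdeal_neg (G : Form r k d) : secIdeal i {-G} = secIdeal i {G} := by
  apply secIdeal_eq_of_span
  intro j U hU
  rw [Set.image_singleton, Set.image_singleton, eqn_neg, Ideal.span_singleton_neg]

theorem secIdeal_pair (F G : Form r k d) : secIdeal i (Set.range ![G, -F]) = secIdeal i {F, G} := by
  apply secIdeal_eq_of_span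
  intro j U hU
  rw [Matrix.range_cons, Matrix.range_cons, Matrix.range_empty, Set.union_empty, Set.image_union,
    Set.image_singleton, Set.image_singleton, Set.image_pair, eqn_neg, Ideal.span_union,
    Ideal.span_singleton_neg, Set.insert_eq, Ideal.span_union, sup_comm]

/-- The local regularity hypotheses on the two forms. -/
structure Reg (F G : Form r k d) : Prop where
  left : ∀ (j : Fin (r + 1)) (U : X.affineOpens) (hU : U.1 ≤ i ⁻¹ᵁ chart r k j),
    eqn i j U.1 hU F ∈ nonZeroDivisors Γ(X, U.1)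
  right : ∀ (j : Fin (r + 1)) (U : X.affineOpens) (hU : U.1 ≤ i ⁻¹ᵁ chart r k j),
    eqn i j U.1 hU G ∈ nonZeroDivisors Γ(X, U.1)
  reg : ∀ (j : Fin (r + 1)) (U : X.affineOpens) (hU : U.1 ≤ i ⁻¹ᵁ chart r k j) (x : Γ(X, U.1)),
    eqn i j U.1 hU G ∣ eqn i j U.1 hU F * x → eqn i j U.1 hU G ∣ x

theorem dvd_of_dvd_mul {A : Type*} [CommRing A] {f g : A} (hg : g ∈ nonZeroDivisors A)
    (h : ∀ x, g ∣ f * x → g ∣ x) (c : A) (x : A) (hx : f + c * g ∣ g * x) : f + c * g ∣ x := by
  obtain ⟨y, hy⟩ := hx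
  obtain ⟨z, rfl⟩ := h y ⟨x - c * y, by rw [mul_sub, hy]; ring⟩
  refine ⟨z, ?_⟩
  refine (mul_cancel_left_mem_nonZeroDivisors hg).1 ?_
  rw [hy]; ring

theorem neg_mem_nzd {A : Type*} [CommRing A] {f : A} (hf : f ∈ nonZeroDivisors A) : -f ∈ nonZeroDivisors A := by
  rw [mem_nonZeroDivisors_iff_right] at hf ⊢
  intro x hx
  apply hf
  rw [mul_neg, neg_eq_zero] at hx
  exact hx

variable {i}

theorem iso_congr {J : X'.IdealSheafData} {b : X' ⟶ X} {I I' : X.IdealSheafData} (hI : I = I')
    (h : ∃ e : J.subscheme ≅ I.subscheme, e.hom ≫ I.subschemeι = J.subschemeι ≫ b) :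
    ∃ e : J.subscheme ≅ I'.subscheme, e.hom ≫ I'.subschemeι = J.subschemeι ≫ b := by
  subst hI; exact h

theorem isPencilFibration_rho (F G : Form r k d) (hreg : Reg i F G) (b : X' ⟶ X)
    (hb : BlowUp.IsBlowUp b (secIdeal i (Set.range ![G, -F])))
    (p : X' ⟶ Spec (CommRingCat.of k)) (hp : p = (b ≫ i) ≫ CohB1.ProjSpace.toSpec r k) :
    LefMon.IsPencilFibration i F G b (rho (isEff hb) p) := by
  refine ⟨?_, ?_, ?_, ?_⟩
  · rw [← secIdeal_pair]; exact hb
  · rw [rho_toSpec, hp, Category.assoc]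
  · intro c
    have hI : secIdeal i {-(F + c • G)} = secIdeal i {F + c • G} := secIdeal_neg i _
    refine iso_congr hI ?_
    apply FibIso.exists_iso_of_local
    intro x
    obtain ⟨U, j, hxU, hle⟩ := exists_affine_chart i x
    refine ⟨U, hxU, ?_⟩
    refine nonempty_loc hb p hp (a := 0) (a' := 1) (by decide) (-c) 1 one_ne_zero (LefMon.line k c) ?_ _ ?_ j U hle
      ?_ ?_
    · simp only [LefMon.line, map_neg, map_one, one_mul]
      change MvPolynomial.X 1 - c • MvPolynomial.X 0 = _
      rw [MvPolynomial.smul_eq_C_mul]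
      ring
    · apply Subtype.ext
      change -(F.1 + c • G.1) = -c • G.1 + (1 : k) • -F.1
      rw [neg_smul, one_smul, neg_add]
      exact add_comm _ _
    · exact hreg.right j U hle
    · intro x hx
      rw [eqn_neg, neg_dvd] at hx ⊢
      rw [eqn_add, eqn_smul] at hx ⊢
      exact dvd_of_dvd_mul (hreg.right j U hle) (hreg.reg j U hle) _ x hx
  · apply FibIso.exists_iso_of_local
    intro x
    obtain ⟨U, j, hxU, hle⟩ := exists_affine_chart i x
    refine ⟨U, hxU, ?_⟩
    refine nonempty_loc hb p hp (a := 1) (a' := 0) (by decide) 0 1 one_ne_zero (LefMon.lineInf k) ?_ _ ?_ j U hle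
      ?_ ?_
    · simp only [LefMon.lineInf, map_zero, zero_mul, zero_add, map_one, one_mul]
    · apply Subtype.ext
      change G.1 = (0 : k) • -F.1 + (1 : k) • G.1
      rw [zero_smul, one_smul, zero_add]
    · change eqn i j U.1 hle (-F) ∈ _
      rw [eqn_neg]
      exact neg_mem_nzd (hreg.left j U hle)
    · intro x hx
      change eqn i j U.1 hle G ∣ eqn i j U.1 hle (-F) * x at hx
      rw [eqn_neg, neg_mul, dvd_neg] at hx
      exact hreg.reg j U hle x hx

/-- Existence of the pencil fibration. -/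
theorem exists_isPencilFibration (F G : Form r k d) (hreg : Reg i F G) :
    ∃ (X' : Scheme.{u}) (b : X' ⟶ X) (ρ : X' ⟶ CohB1.ProjSpace 1 k), LefMon.IsPencilFibration i F G b ρ :=
  ⟨_, Groth.Agent.Flat2C.BlowExist.b (secIdeal i (Set.range ![G, -F])), _,
    isPencilFibration_rho F G hreg _ (Groth.Agent.Flat2C.BlowExist.isBlowUp_b _) _ rfl⟩

end Groth.Agent.Lefpen.H711.PencilExist
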