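import Groth.Agent.Lefpen.H711.RatioSec
import Groth.Agent.Pi1C.LefEmb

/-!
# The morphism to projective space defined by a family of forms generating an invertible ideal

* `ev h j W hW : k[T_0, …, T_r] →+* Γ(Y, W)`: dehomogenization at `T_j` pulled back along `h : Y ⟶ P^r`;
  `eqn_eq_ev`.
* `rho hE p : Y ⟶ P^m_k` for a family `s : Fin (m + 1) → Form r k d`; `rho_preimage_chart`, `ev_rho_X`, `eqn_mul_ev_rho`.
-/

set_option autoImplicit false
set_option linter.unusedSectionVars false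
universe u

open CategoryTheory AlgebraicGeometry Limits TopologicalSpace Opposite HomogeneousLocalization

namespace Groth.Agent.Lefpen.H711.PencilMap

open LefPen Groth.Agent.Divis.IdealComap Groth.Agent.Fdesc.LocGen Groth.Agent.Lefpen.H705.HypIdeal
open Groth.Agent.Divis.CartierBasic Groth.Agent.Divis.CartierStalk Groth.Agent.Lefpen.H705.SecIdeal
open Groth.Agent.Lefpen.H711.RatioSec
open Groth.Agent.VarietyB Groth.Agent.VarietyB.ProjGlue Groth.Agent.VarietyB.ProjStd

attribute [local instance] MvPolynomial.gradedAlgebra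

variable {r : ℕ} {k : Type u} [Field k] {d : ℕ} {Y : Scheme.{u}} (h : Y ⟶ CohB1.ProjSpace r k)

/-- The constants on an open of a `k`-scheme. -/
noncomputable abbrev cst {Y : Scheme.{u}} (p : Y ⟶ Spec (CommRingCat.of k)) (W : Y.Opens) : k →+* Γ(Y, W) :=
  CoordData.baseHom p W

/-- Dehomogenization at `T_j`, as functions on the chart. -/
noncomputable def evStd (r : ℕ) (k : Type u) [Field k] (j : Fin (r + 1)) :
    MvPolynomial (Fin (r + 1)) k →+* Γ(CohB1.ProjSpace r k, chart r k j) :=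
  (Proj.awayToSection (CohB1.polyGrading r k) (MvPolynomial.X j)).hom.comp (deh (Fin (r + 1)) k j)

theorem dehom_eq_evStd {e : ℕ} (G : Form r k e) (j : Fin (r + 1)) : dehom G j = evStd r k j G.1 := by
  have h1 := deh_of_isHomogeneous (Fin (r + 1)) k j (n := e) G.1 (by rw [smul_eq_mul, mul_one]; exact G.2)
  exact congrArg (Proj.awayToSection (CohB1.polyGrading r k) (MvPolynomial.X j)).hom h1.symm

theorem evStd_C (j : Fin (r + 1)) (c : k) :
    evStd r k j (MvPolynomial.C c) = cst (CohB1.ProjSpace.toSpec r k) (chart r k j) c := by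
  have h1 := congr($(hom_std (Fin (r + 1)) k j) (MvPolynomial.C c))
  refine Eq.trans h1.symm ?_
  simp only [CoordData.hom, MvPolynomial.eval₂Hom_C]
  rfl

/-- Dehomogenization at `T_j` followed by pullback along `h`. -/
noncomputable def ev (j : Fin (r + 1)) (W : Y.Opens) (hW : W ≤ h ⁻¹ᵁ chart r k j) :
    MvPolynomial (Fin (r + 1)) k →+* Γ(Y, W) :=
  (h.appLE (chart r k j) W hW).hom.comp (evStd r k j)

theorem eqn_eq_ev {e : ℕ} (G : Form r k e) (j : Fin (r + 1)) (W : Y.Opens) (hW : W ≤ h ⁻¹ᵁ chart r k j) :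
    eqn h j W hW G = ev h j W hW G.1 := by
  rw [eqn, dehom_eq_evStd]
  rfl

theorem appLE_cst {X Z : Scheme.{u}} (f : Z ⟶ X) (p : X ⟶ Spec (CommRingCat.of k)) (V : X.Opens) (W : Z.Opens)
    (e : W ≤ f ⁻¹ᵁ V) (c : k) : (f.appLE V W e).hom (cst p V c) = cst (f ≫ p) W c := by
  simp only [cst, CoordData.baseHom, RingHom.comp_apply]
  set z := (Scheme.ΓSpecIso (CommRingCat.of k)).inv.hom c
  have h1 : p.appTop ≫ X.presheaf.map (homOfLE (le_top : V ≤ ⊤)).op ≫ f.appLE V W e =
      (f ≫ p).appTop ≫ Z.presheaf.map (homOfLE (le_top : W ≤ ⊤)).op := by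
    rw [Scheme.Hom.map_appLE, Scheme.Hom.appLE, Scheme.Hom.comp_appTop, Category.assoc]
    rfl
  exact congr(($h1).hom z)

theorem ev_C (j : Fin (r + 1)) (W : Y.Opens) (hW : W ≤ h ⁻¹ᵁ chart r k j) (c : k) :
    ev h j W hW (MvPolynomial.C c) = cst (h ≫ CohB1.ProjSpace.toSpec r k) W c := by
  rw [ev, RingHom.comp_apply, evStd_C, appLE_cst]

theorem eqn_add {e : ℕ} (F G : Form r k e) (j : Fin (r + 1)) (W : Y.Opens) (hW : W ≤ h ⁻¹ᵁ chart r k j) :
    eqn h j W hW (F + G) = eqn h j W hW F + eqn h j W hW G := by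
  rw [eqn_eq_ev, eqn_eq_ev, eqn_eq_ev, ← map_add]
  rfl

theorem eqn_smul {e : ℕ} (c : k) (G : Form r k e) (j : Fin (r + 1)) (W : Y.Opens) (hW : W ≤ h ⁻¹ᵁ chart r k j) :
    eqn h j W hW (c • G) = cst (h ≫ CohB1.ProjSpace.toSpec r k) W c * eqn h j W hW G := by
  rw [eqn_eq_ev, eqn_eq_ev, ← ev_C h j W hW, ← map_mul, ← MvPolynomial.smul_eq_C_mul]
  rfl

theorem eqn_neg {e : ℕ} (G : Form r k e) (j : Fin (r + 1)) (W : Y.Opens) (hW : W ≤ h ⁻¹ᵁ chart r k j) :
    eqn h j W hW (-G) = - eqn h j W hW G := by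
  rw [eqn_eq_ev, eqn_eq_ev, ← map_neg]
  rfl

section rho

variable {h} {m : ℕ} {s : Fin (m + 1) → Form r k d}
  (hE : BlowUp.IsEffCartierIdeal (secIdeal h (Set.range s))) (p : Y ⟶ Spec (CommRingCat.of k))

/-- The morphism to `P^m` defined by the family. -/
noncomputable def rho : Y ⟶ CohB1.ProjSpace m k := (coordData hE).toProjSpace p

theorem rho_toSpec : rho hE p ≫ CohB1.ProjSpace.toSpec m k = p :=
  (coordData hE).toProjSpace_toSpec p

theorem rho_preimage_chart (a : Fin (m + 1)) : rho hE p ⁻¹ᵁ chart m k a = U h s a :=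
  (coordData hE).preimage_basicOpen (fun i j => basicOpen_rat hE i j) p a

/-- Evaluation at the ratios `s b / s a`. -/
noncomputable def homU (a : Fin (m + 1)) : MvPolynomial (Fin (m + 1)) k →+* Γ(Y, U h s a) :=
  (coordData hE).hom p a

theorem homU_X (a b : Fin (m + 1)) : homU hE p a (MvPolynomial.X b) = rat hE a b :=
  (coordData hE).hom_X p a b

/-- The functions `T_b / T_a` pull back to the ratios. -/
theorem ev_rho (a : Fin (m + 1)) (W : Y.Opens) (hW : W ≤ rho hE p ⁻¹ᵁ chart m k a)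
    (x : MvPolynomial (Fin (m + 1)) k) :
    ev (rho hE p) a W hW x = ores (hW.trans (rho_preimage_chart hE p a).le) (homU hE p a x) := by
  have h1 : ((rho hE p).appLE (chart m k a) (U h s a) (rho_preimage_chart hE p a).ge).hom (evStd m k a x) =
      homU hE p a x := by
    have h2 := congr($(Groth.Agent.Pi1C.LefEmb.appLE_hom (coordData hE) p a (rho_preimage_chart hE p a).ge) x)
    rw [hom_std] at h2
    exact h2
  rw [← h1]
  exact congr($(congrArg CommRingCat.Hom.hom (Scheme.Hom.appLE_map (rho hE p) (rho_preimage_chart hE p a).ge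
    (homOfLE (hW.trans (rho_preimage_chart hE p a).le)).op)) (evStd m k a x)).symm

theorem ev_rho_X (a b : Fin (m + 1)) (W : Y.Opens) (hW : W ≤ rho hE p ⁻¹ᵁ chart m k a) :
    ev (rho hE p) a W hW (MvPolynomial.X b) =
      ores (hW.trans (rho_preimage_chart hE p a).le) (rat hE a b) := by
  rw [ev_rho, homU_X]

theorem ev_rho_C (a : Fin (m + 1)) (W : Y.Opens) (hW : W ≤ rho hE p ⁻¹ᵁ chart m k a) (c : k) :
    ev (rho hE p) a W hW (MvPolynomial.C c) = cst p W c := by
  rw [ev_C, rho_toSpec]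

end rho

end Groth.Agent.Lefpen.H711.PencilMap
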