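import Groth.Agent.Lefpen.H705.SecIdeal
import Groth.Agent.Divis.BlowChart2
import Groth.Agent.VarietyB.ProjStd

/-!
# Ratios of sections generating an invertible ideal

`h : Y ⟶ P^r_k`, `s : I → Form r k d` (finite family) such that the inverse image ideal `secIdeal h (range s)` is
effective Cartier.  `U a` is the open subset where `s a` generates it, and `ratio a b ∈ Γ(Y, U a)` the unique function
with `s a * ratio a b = s b`.  `coordData` packages them as homogeneous coordinate data.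
-/

set_option autoImplicit false
set_option linter.unusedSectionVars false
universe u

open CategoryTheory AlgebraicGeometry Limits TopologicalSpace Opposite

namespace Groth.Agent.Lefpen.H711.RatioSec

open LefPen Groth.Agent.Divis.IdealComap Groth.Agent.Fdesc.LocGen Groth.Agent.Lefpen.H705.HypIdeal
open Groth.Agent.Divis.CartierBasic Groth.Agent.Divis.CartierStalk Groth.Agent.Lefpen.H705.SecIdeal

variable {r : ℕ} {k : Type u} [Field k] {d : ℕ}

section local_

variable {Y : Scheme.{u}}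

/-- Gluing a section determined by a pointwise uniqueness condition on germs. -/
theorem exists_section_of_local (V : Y.Opens) (P : ∀ y : Y, Y.presheaf.stalk y → Prop)
    (huniq : ∀ y ∈ V, ∀ a b, P y a → P y b → a = b)
    (hloc : ∀ y ∈ V, ∃ (W : Y.Opens) (_ : y ∈ W) (_ : W ≤ V) (s : Γ(Y, W)),
      ∀ z (hz : z ∈ W), P z (Y.presheaf.germ W z hz s)) :
    ∃ t : Γ(Y, V), ∀ y (hy : y ∈ V), P y (Y.presheaf.germ V y hy t) := by
  choose W hyW hWV s hs using fun y : V => hloc y.1 y.2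
  obtain ⟨(t : Γ(Y, V)), ht, -⟩ := Y.sheaf.existsUnique_gluing' W V (fun i => homOfLE (hWV i))
    (fun y hy => TopologicalSpace.Opens.mem_iSup.2 ⟨⟨y, hy⟩, hyW ⟨y, hy⟩⟩) s (by
      intro i j
      apply TopCat.Presheaf.section_ext Y.sheaf (W i ⊓ W j)
      intro z hz
      refine huniq z (hWV i hz.1) _ _ ?_ ?_
      · have := TopCat.Presheaf.germ_res_apply' Y.presheaf (homOfLE (inf_le_left : W i ⊓ W j ≤ W i)).op z hz (s i)
        refine Eq.mpr (congrArg (P z) ?_) (hs i z hz.1)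
        exact this
      · have := TopCat.Presheaf.germ_res_apply' Y.presheaf (homOfLE (inf_le_right : W i ⊓ W j ≤ W j)).op z hz (s j)
        refine Eq.mpr (congrArg (P z) ?_) (hs j z hz.2)
        exact this)
  refine ⟨t, fun y hy => ?_⟩
  have h1 := ht ⟨y, hy⟩
  have h2 := TopCat.Presheaf.germ_res_apply' Y.presheaf (homOfLE (hWV ⟨y, hy⟩)).op y (hyW ⟨y, hy⟩) t
  rw [← h2]
  have h3 := hs ⟨y, hy⟩ y (hyW ⟨y, hy⟩)
  rw [← h1] at h3
  exact h3

end local_

variable {Y : Scheme.{u}} (h : Y ⟶ CohB1.ProjSpace r k)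

/-- Change of chart for the local equations: a unit independent of the form. -/
theorem exists_stalkEqn_change (i j : Fin (r + 1)) (y : Y) (hi : h y ∈ chart r k i) (hj : h y ∈ chart r k j) :
    ∃ u : (Y.presheaf.stalk y)ˣ, ∀ G : Form r k d, stalkEqn h i y hi G = u * stalkEqn h j y hj G := by
  let V := chart r k i ⊓ chart r k j
  let φ : Γ(CohB1.ProjSpace r k, V) →+* Y.presheaf.stalk y :=
    (h.stalkMap y).hom.comp ((CohB1.ProjSpace r k).presheaf.germ V (h y) ⟨hi, hj⟩).hom
  have hu := ((isUnit_ores_ratio i j V inf_le_left inf_le_right).pow d).map φ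
  refine ⟨hu.unit, fun G => ?_⟩
  have h1 := congrArg φ (ores_dehom G i j V inf_le_left inf_le_right)
  rw [map_mul] at h1
  have h2 : φ (ores (inf_le_left : V ≤ chart r k i) (dehom G i)) = stalkEqn h i y hi G := by
    change (h.stalkMap y).hom (((CohB1.ProjSpace r k).presheaf.germ V (h y) ⟨hi, hj⟩).hom _) = _
    rw [stalkEqn]
    congr 1
    exact TopCat.Presheaf.germ_res_apply' _ _ _ _ _
  have h3 : φ (ores (inf_le_right : V ≤ chart r k j) (dehom G j)) = stalkEqn h j y hj G := by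
    change (h.stalkMap y).hom (((CohB1.ProjSpace r k).presheaf.germ V (h y) ⟨hi, hj⟩).hom _) = _
    rw [stalkEqn]
    congr 1
    exact TopCat.Presheaf.germ_res_apply' _ _ _ _ _
  rw [h2, h3] at h1
  exact h1

theorem exists_mem_chart (y : Y) : ∃ j, h y ∈ chart r k j := by
  have : h y ∈ (⨆ j : Fin (r + 1), chart r k j) := by rw [iSup_chart]; trivial
  exact Opens.mem_iSup.mp this

theorem isEff_exists_stalk {J : Y.IdealSheafData} (hE : BlowUp.IsEffCartierIdeal J) (y : Y) :
    ∃ e : Y.presheaf.stalk y, e ∈ nonZeroDivisors _ ∧ stalkIdeal J y = Ideal.span {e} := by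
  obtain ⟨U, hyU, f, hf, hfU⟩ := hE y
  refine ⟨Y.presheaf.germ U.1 y hyU f, Groth.Agent.Divis.BlowChart.germ_mem_nonZeroDivisors U.2 hf y hyU, ?_⟩
  rw [stalkIdeal_eq J U hyU, hfU, Ideal.map_span, Set.image_singleton]

/-- Divisibility of germs holds on a neighbourhood. -/
theorem exists_mul_of_germ_dvd {V : Y.Opens} (a b : Γ(Y, V)) (y : Y) (hy : y ∈ V)
    (hab : Y.presheaf.germ V y hy a ∣ Y.presheaf.germ V y hy b) :
    ∃ (W : Y.Opens) (_ : y ∈ W) (hW : W ≤ V) (σ : Γ(Y, W)), ores hW b = ores hW a * σ := by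
  obtain ⟨c, hc⟩ := hab
  obtain ⟨W₁, hW₁, hyW₁, (σ : Γ(Y, W₁)), rfl⟩ := Y.presheaf.exists_le_germ_eq c hy
  have h1 : Y.presheaf.germ V y hy b = Y.presheaf.germ W₁ y hyW₁ (ores hW₁ a * σ) := by
    rw [hc, map_mul]
    congr 1
    exact (TopCat.Presheaf.germ_res_apply' _ _ _ _ _).symm
  obtain ⟨W, hyW, iU, iV, he⟩ := Y.presheaf.germ_eq y hy hyW₁ _ _ h1
  refine ⟨W, hyW, iU.le, (Y.presheaf.map iV.op).hom σ, ?_⟩
  refine Eq.trans he ?_
  change (Y.presheaf.map iV.op).hom (ores hW₁ a * σ) = _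
  rw [map_mul]
  congr 1
  exact ores_ores hW₁ iV.le a

section family

variable {I : Type} [Finite I] (s : I → Form r k d)

theorem stalkIdeal_range (j : Fin (r + 1)) (y : Y) (hj : h y ∈ chart r k j) :
    stalkIdeal (secIdeal h (Set.range s)) y = Ideal.span (Set.range fun a => stalkEqn h j y hj (s a)) := by
  rw [stalkIdeal_secIdeal h _ j y hj, ← Set.range_comp]
  rfl

/-- `s a` generates the ideal of the family at `y`. -/
def Gen (a : I) (y : Y) : Prop :=
  ∃ (j : Fin (r + 1)) (hj : h y ∈ chart r k j), ∀ b, stalkEqn h j y hj (s a) ∣ stalkEqn h j y hj (s b)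

variable {h s}

theorem Gen.dvd {a : I} {y : Y} (hy : Gen h s a y) (j : Fin (r + 1)) (hj : h y ∈ chart r k j) (b : I) :
    stalkEqn h j y hj (s a) ∣ stalkEqn h j y hj (s b) := by
  obtain ⟨i, hi, hdvd⟩ := hy
  obtain ⟨u, hu⟩ := exists_stalkEqn_change h (d := d) j i y hj hi
  rw [hu, hu]
  exact mul_dvd_mul_left _ (hdvd b)

theorem Gen.stalkIdeal_eq_span {a : I} {y : Y} (hy : Gen h s a y) (j : Fin (r + 1)) (hj : h y ∈ chart r k j) :
    stalkIdeal (secIdeal h (Set.range s)) y = Ideal.span {stalkEqn h j y hj (s a)} := by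
  rw [stalkIdeal_range h s j y hj]
  apply le_antisymm
  · rw [Ideal.span_le]
    rintro _ ⟨b, rfl⟩
    exact Ideal.mem_span_singleton.2 (hy.dvd j hj b)
  · rw [Ideal.span_le, Set.singleton_subset_iff]
    exact Ideal.subset_span ⟨a, rfl⟩

theorem gen_iff_stalkIdeal {a : I} {y : Y} (j : Fin (r + 1)) (hj : h y ∈ chart r k j) :
    Gen h s a y ↔ stalkIdeal (secIdeal h (Set.range s)) y = Ideal.span {stalkEqn h j y hj (s a)} := by
  refine ⟨fun hy => hy.stalkIdeal_eq_span j hj, fun he => ⟨j, hj, fun b => ?_⟩⟩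
  rw [← Ideal.mem_span_singleton, ← he, stalkIdeal_range h s j y hj]
  exact Ideal.subset_span ⟨b, rfl⟩

theorem Gen.mem_nonZeroDivisors (hE : BlowUp.IsEffCartierIdeal (secIdeal h (Set.range s))) {a : I} {y : Y}
    (hy : Gen h s a y) (j : Fin (r + 1)) (hj : h y ∈ chart r k j) :
    stalkEqn h j y hj (s a) ∈ nonZeroDivisors (Y.presheaf.stalk y) := by
  obtain ⟨e, he, hspan⟩ := isEff_exists_stalk hE y
  rw [hy.stalkIdeal_eq_span j hj] at hspan
  have h1 : e ∈ Ideal.span {stalkEqn h j y hj (s a)} := by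
    rw [hspan]; exact Ideal.mem_span_singleton_self e
  obtain ⟨c, rfl⟩ := Ideal.mem_span_singleton.1 h1
  exact (mul_mem_nonZeroDivisors.1 he).1

theorem exists_gen (hE : BlowUp.IsEffCartierIdeal (secIdeal h (Set.range s))) (y : Y) :
    ∃ a, Gen h s a y := by
  obtain ⟨j, hj⟩ := exists_mem_chart h y
  obtain ⟨e, he, hspan⟩ := isEff_exists_stalk hE y
  have hs := stalkIdeal_range h s j y hj
  have hmem : ∀ a, ∃ c, stalkEqn h j y hj (s a) = e * c := by
    intro a
    have : stalkEqn h j y hj (s a) ∈ Ideal.span {e} := by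
      rw [← hspan, hs]; exact Ideal.subset_span ⟨a, rfl⟩
    exact Ideal.mem_span_singleton.1 this
  choose c hc using hmem
  by_contra hcon
  push Not at hcon
  have hnu : ∀ a, c a ∈ IsLocalRing.maximalIdeal (Y.presheaf.stalk y) := by
    intro a
    rw [IsLocalRing.mem_maximalIdeal, mem_nonunits_iff]
    intro hu
    refine hcon a ((gen_iff_stalkIdeal j hj).2 ?_)
    rw [hspan, hc a]
    exact (Ideal.span_singleton_mul_right_unit hu e).symm
  have h1 : e ∈ Ideal.span {e} * IsLocalRing.maximalIdeal (Y.presheaf.stalk y) := by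
    have h2 : Ideal.span {e} ≤ Ideal.span {e} * IsLocalRing.maximalIdeal (Y.presheaf.stalk y) := by
      conv_lhs => rw [← hspan, hs]
      rw [Ideal.span_le]
      rintro _ ⟨a, rfl⟩
      rw [SetLike.mem_coe, Ideal.mem_span_singleton_mul]
      exact ⟨c a, hnu a, (hc a).symm⟩
    exact h2 (Ideal.mem_span_singleton_self e)
  obtain ⟨z, hz, hz'⟩ := Ideal.mem_span_singleton_mul.1 h1
  have h5 : z = 1 := by
    have : e * z = e * 1 := by rw [hz', mul_one]
    exact (mul_cancel_left_mem_nonZeroDivisors he).1 this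
  rw [h5] at hz
  exact (Ideal.ne_top_iff_one _).1 (IsLocalRing.maximalIdeal.isMaximal _).ne_top hz

/-- Around a point where `s a` generates, on a neighbourhood `W` all `s b` are multiples of `s a`. -/
theorem Gen.exists_nhd {a : I} {y : Y} (hy : Gen h s a y) :
    ∃ (j : Fin (r + 1)) (W : Y.Opens) (hj : W ≤ h ⁻¹ᵁ chart r k j), y ∈ W ∧
      ∀ b, ∃ σ : Γ(Y, W), eqn h j W hj (s b) = eqn h j W hj (s a) * σ := by
  obtain ⟨j, hj, hdvd⟩ := hy
  have h1 : ∀ b, ∃ (W : Y.Opens) (_ : y ∈ W) (hW : W ≤ h ⁻¹ᵁ chart r k j) (σ : Γ(Y, W)),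
      ores hW (eqn h j (h ⁻¹ᵁ chart r k j) le_rfl (s b)) =
        ores hW (eqn h j (h ⁻¹ᵁ chart r k j) le_rfl (s a)) * σ := by
    intro b
    have hj' : y ∈ h ⁻¹ᵁ chart r k j := hj
    refine exists_mul_of_germ_dvd _ _ y hj' ?_
    rw [germ_eqn h j (h ⁻¹ᵁ chart r k j) le_rfl y hj', germ_eqn h j (h ⁻¹ᵁ chart r k j) le_rfl y hj']
    exact hdvd b
  choose W hyW hW σ hσ using h1
  have hfin : IsOpen (⋂ b, (W b : Set Y)) := isOpen_iInter_of_finite fun b => (W b).2
  let W' : Y.Opens := ⟨⋂ b, (W b : Set Y), hfin⟩ ⊓ h ⁻¹ᵁ chart r k j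
  have hle : ∀ b, W' ≤ W b := fun b z hz => Set.mem_iInter.1 hz.1 b
  have hlej : W' ≤ h ⁻¹ᵁ chart r k j := inf_le_right
  have hres : ∀ G : Form r k d, ores hlej (eqn h j (h ⁻¹ᵁ chart r k j) le_rfl G) = eqn h j W' hlej G := by
    intro G
    rw [eqn, eqn]
    exact congr($(congrArg CommRingCat.Hom.hom (Scheme.Hom.appLE_map h
      (le_refl (h ⁻¹ᵁ chart r k j)) (homOfLE hlej).op)) (dehom G j))
  refine ⟨j, W', hlej, ⟨Set.mem_iInter.2 hyW, hj⟩, fun b => ⟨ores (hle b) (σ b), ?_⟩⟩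
  have h2 := congrArg (ores (hle b)) (hσ b)
  rw [map_mul, ores_ores, ores_ores, hres, hres] at h2
  exact h2

variable (h s)

/-- The open subset where `s a` generates the ideal of the family. -/
def U (a : I) : Y.Opens where
  carrier := {y | Gen h s a y}
  is_open' := by
    rw [isOpen_iff_forall_mem_open]
    intro y hy
    obtain ⟨j, W, hj, hyW, hσ⟩ := Gen.exists_nhd hy
    refine ⟨W, fun z hz => ⟨j, hj hz, fun b => ?_⟩, W.2, hyW⟩
    obtain ⟨σ, hb⟩ := hσ b
    refine ⟨Y.presheaf.germ W z hz σ, ?_⟩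
    rw [← germ_eqn h j W hj z hz, ← germ_eqn h j W hj z hz, hb, map_mul]

variable {h s}

theorem mem_U {a : I} {y : Y} : y ∈ U h s a ↔ Gen h s a y := Iff.rfl

theorem exists_ratio (hE : BlowUp.IsEffCartierIdeal (secIdeal h (Set.range s))) (a b : I) :
    ∃ t : Γ(Y, U h s a), ∀ y (hy : y ∈ U h s a) (j : Fin (r + 1)) (hj : h y ∈ chart r k j),
      stalkEqn h j y hj (s b) = stalkEqn h j y hj (s a) * Y.presheaf.germ (U h s a) y hy t := by
  refine exists_section_of_local (U h s a)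
    (fun y c => ∀ (j : Fin (r + 1)) (hj : h y ∈ chart r k j),
      stalkEqn h j y hj (s b) = stalkEqn h j y hj (s a) * c) ?_ ?_
  · intro y hy c c' hc hc'
    obtain ⟨j, hj⟩ := exists_mem_chart h y
    have h1 := hc j hj
    rw [hc' j hj] at h1
    exact ((mul_cancel_left_mem_nonZeroDivisors (hy.mem_nonZeroDivisors hE j hj)).1 h1).symm
  · intro y hy
    obtain ⟨j, W, hj, hyW, hσ⟩ := Gen.exists_nhd hy
    obtain ⟨σ, hb⟩ := hσ b
    have hWU : W ≤ U h s a := by
      intro z hz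
      refine ⟨j, hj hz, fun c => ?_⟩
      obtain ⟨τ, hc⟩ := hσ c
      refine ⟨Y.presheaf.germ W z hz τ, ?_⟩
      rw [← germ_eqn h j W hj z hz, ← germ_eqn h j W hj z hz, hc, map_mul]
    refine ⟨W, hyW, hWU, σ, fun z hz i hi => ?_⟩
    obtain ⟨u, hu⟩ := exists_stalkEqn_change h (d := d) i j z hi (hj hz)
    rw [hu, hu, mul_assoc]
    congr 1
    rw [← germ_eqn h j W hj z hz, ← germ_eqn h j W hj z hz, hb, map_mul]

/-- The function `s b / s a` on `U a`. -/
noncomputable def rat (hE : BlowUp.IsEffCartierIdeal (secIdeal h (Set.range s))) (a b : I) : Γ(Y, U h s a) :=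
  (exists_ratio hE a b).choose

theorem rat_spec (hE : BlowUp.IsEffCartierIdeal (secIdeal h (Set.range s))) (a b : I) (y : Y)
    (hy : y ∈ U h s a) (j : Fin (r + 1)) (hj : h y ∈ chart r k j) :
    stalkEqn h j y hj (s b) = stalkEqn h j y hj (s a) * Y.presheaf.germ (U h s a) y hy (rat hE a b) :=
  (exists_ratio hE a b).choose_spec y hy j hj

theorem section_ext' {V : Y.Opens} (a b : Γ(Y, V))
    (hab : ∀ y (hy : y ∈ V), Y.presheaf.germ V y hy a = Y.presheaf.germ V y hy b) : a = b :=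
  TopCat.Presheaf.section_ext Y.sheaf V _ _ hab

theorem eqn_mul_rat (hE : BlowUp.IsEffCartierIdeal (secIdeal h (Set.range s))) (a b : I) (W : Y.Opens)
    (hW : W ≤ U h s a) (j : Fin (r + 1)) (hj : W ≤ h ⁻¹ᵁ chart r k j) :
    eqn h j W hj (s a) * ores hW (rat hE a b) = eqn h j W hj (s b) := by
  apply section_ext'
  intro y hy
  rw [map_mul, germ_eqn, germ_eqn, rat_spec hE a b y (hW hy) j (hj hy)]
  congr 1
  exact TopCat.Presheaf.germ_res_apply' _ _ _ _ _

theorem rat_self (hE : BlowUp.IsEffCartierIdeal (secIdeal h (Set.range s))) (a : I) : rat hE a a = 1 := by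
  apply section_ext'
  intro y hy
  obtain ⟨j, hj⟩ := exists_mem_chart h y
  have h1 := rat_spec hE a a y hy j hj
  rw [map_one]
  refine (mul_cancel_left_mem_nonZeroDivisors (Gen.mem_nonZeroDivisors hE hy j hj)).1 ?_
  rw [← h1, mul_one]

theorem rat_mul (hE : BlowUp.IsEffCartierIdeal (secIdeal h (Set.range s))) (a b c : I) (W : Y.Opens)
    (ha : W ≤ U h s a) (hb : W ≤ U h s b) :
    ores ha (rat hE a c) = ores ha (rat hE a b) * ores hb (rat hE b c) := by
  apply section_ext'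
  intro y hy
  obtain ⟨j, hj⟩ := exists_mem_chart h y
  rw [map_mul]
  have e1 : Y.presheaf.germ W y hy (ores ha (rat hE a c)) = Y.presheaf.germ _ y (ha hy) (rat hE a c) :=
    TopCat.Presheaf.germ_res_apply' _ _ _ _ _
  have e2 : Y.presheaf.germ W y hy (ores ha (rat hE a b)) = Y.presheaf.germ _ y (ha hy) (rat hE a b) :=
    TopCat.Presheaf.germ_res_apply' _ _ _ _ _
  have e3 : Y.presheaf.germ W y hy (ores hb (rat hE b c)) = Y.presheaf.germ _ y (hb hy) (rat hE b c) :=
    TopCat.Presheaf.germ_res_apply' _ _ _ _ _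
  rw [e1, e2, e3]
  refine (mul_cancel_left_mem_nonZeroDivisors (Gen.mem_nonZeroDivisors hE (ha hy) j hj)).1 ?_
  rw [← rat_spec hE a c y (ha hy) j hj, ← mul_assoc, ← rat_spec hE a b y (ha hy) j hj,
    ← rat_spec hE b c y (hb hy) j hj]

theorem basicOpen_rat (hE : BlowUp.IsEffCartierIdeal (secIdeal h (Set.range s))) (a b : I) :
    Y.basicOpen (rat hE a b) = U h s a ⊓ U h s b := by
  ext y
  constructor
  · intro hy
    have hya : y ∈ U h s a := Y.basicOpen_le _ hy
    refine ⟨hya, ?_⟩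
    obtain ⟨j, hj⟩ := exists_mem_chart h y
    have h1 : IsUnit (Y.presheaf.germ (U h s a) y hya (rat hE a b)) := (Y.mem_basicOpen _ _ hya).1 hy
    refine (gen_iff_stalkIdeal j hj).2 ?_
    rw [Gen.stalkIdeal_eq_span hya j hj, rat_spec hE a b y hya j hj]
    exact (Ideal.span_singleton_mul_right_unit h1 _).symm
  · rintro ⟨hya, hyb⟩
    refine (Y.mem_basicOpen _ _ hya).2 ?_
    have h1 := rat_mul hE a b a (U h s a ⊓ U h s b) inf_le_left inf_le_right
    rw [rat_self, map_one] at h1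
    have h2 : IsUnit (ores (inf_le_left : U h s a ⊓ U h s b ≤ _) (rat hE a b)) :=
      IsUnit.of_mul_eq_one _ h1.symm
    have h3 := h2.map (Y.presheaf.germ (U h s a ⊓ U h s b) y ⟨hya, hyb⟩).hom
    refine Eq.mp (congrArg IsUnit ?_) h3
    exact TopCat.Presheaf.germ_res_apply' _ _ _ _ _

open Groth.Agent.VarietyB.ProjGlue

/-- The homogeneous coordinate data defined by the family. -/
noncomputable def coordData (hE : BlowUp.IsEffCartierIdeal (secIdeal h (Set.range s))) : CoordData Y I where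
  U := U h s
  iSup_U := by
    rw [eq_top_iff]
    intro y _
    obtain ⟨a, ha⟩ := exists_gen hE y
    exact Opens.mem_iSup.2 ⟨a, ha⟩
  f := rat hE
  f_self := rat_self hE
  f_mul a b c := rat_mul hE a b c _ _ _

end family

end Groth.Agent.Lefpen.H711.RatioSec
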